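import Mathlib.RingTheory.Spectrum.Prime.Chevalley
import Mathlib.RingTheory.Jacobson.Ring
import Mathlib.FieldTheory.IsAlgClosed.Basic
import Mathlib.RingTheory.Polynomial.Quotient
import Mathlib.RingTheory.Localization.Away.AdjoinRoot
import Groth.Agent.Fano.K713.JacCrit

/-!
# Dominant polynomial maps: general points lift

`k` algebraically closed, `Φ` a polynomial map whose components are algebraically independent, `u ≠ 0` a polynomial on the
source: a general point of the target is the image of a point at which `u` does not vanish.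
-/

set_option autoImplicit false
universe u

namespace K271.GenLift

open MvPolynomial

theorem exists_basicOpen_subset {D : Type u} [CommRing D] [IsDomain D] {s : Set (PrimeSpectrum D)}
    (hs : Topology.IsConstructible s) (h : (⊥ : PrimeSpectrum D) ∈ s) :
    ∃ f : D, f ≠ 0 ∧ (PrimeSpectrum.basicOpen f : Set (PrimeSpectrum D)) ⊆ s := by
  obtain ⟨S, rfl⟩ := PrimeSpectrum.exists_constructibleSetData_iff.mpr hs
  obtain ⟨c, hc, hc'⟩ : ∃ c ∈ S, (⊥ : PrimeSpectrum D) ∈ c.toSet := by
    simpa [PrimeSpectrum.ConstructibleSetData.toSet] using h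
  refine ⟨c.f, ?_, ?_⟩
  · rintro h0
    apply hc'.2
    rw [h0]
    simp
  · intro p hp
    simp only [PrimeSpectrum.ConstructibleSetData.toSet, Set.mem_iUnion]
    refine ⟨c, hc, ?_, ?_⟩
    · rintro _ ⟨i, rfl⟩
      have h1 : c.g i ∈ (⊥ : PrimeSpectrum D).asIdeal := hc'.1 ⟨i, rfl⟩
      have h2 : c.g i = 0 := by simpa using h1
      rw [SetLike.mem_coe, h2]
      exact p.asIdeal.zero_mem
    · intro hcon
      exact hp (hcon (Set.mem_singleton _))

/-- Over an algebraically closed field, a maximal ideal of an algebra of finite type is the kernel of a point. -/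
theorem exists_point {k : Type u} [Field k] [IsAlgClosed k] {E : Type u} [CommRing E] [Algebra k E]
    [Algebra.FiniteType k E] (m : Ideal E) [m.IsMaximal] : ∃ χ : E →ₐ[k] k, RingHom.ker χ.toRingHom = m := by
  let := Ideal.Quotient.field m
  have h1 : Algebra.FiniteType k (E ⧸ m) := inferInstance
  have h2 : Module.Finite k (E ⧸ m) := finite_of_finite_type_of_isJacobsonRing k (E ⧸ m)
  have h3 : Function.Bijective (algebraMap k (E ⧸ m)) := IsAlgClosed.algebraMap_bijective_of_isIntegral
  let e : k ≃ₐ[k] (E ⧸ m) := AlgEquiv.ofBijective (Algebra.ofId k (E ⧸ m)) h3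
  refine ⟨e.symm.toAlgHom.comp (Ideal.Quotient.mkₐ k m), ?_⟩
  ext a
  rw [RingHom.mem_ker]
  change e.symm (Ideal.Quotient.mk m a) = 0 ↔ _
  rw [map_eq_zero_iff e.symm e.symm.injective, Ideal.Quotient.eq_zero_iff_mem]

theorem exists_lift {k : Type u} [Field k] [IsAlgClosed k] {σ τ : Type} [Finite σ] [Finite τ]
    (Φ : σ → MvPolynomial τ k) (hΦ : ∀ P : MvPolynomial σ k, aeval Φ P = 0 → P = 0) (u : MvPolynomial τ k) (hu : u ≠ 0) :
    ∃ s : MvPolynomial σ k, s ≠ 0 ∧ ∀ y : σ → k, eval y s ≠ 0 → ∃ x : τ → k, eval x u ≠ 0 ∧ ∀ i, eval x (Φ i) = y i := by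
  classical
  let D := MvPolynomial σ k
  let B := MvPolynomial τ k
  let E := Localization.Away u
  have hle : Submonoid.powers u ≤ nonZeroDivisors B := powers_le_nonZeroDivisors_of_noZeroDivisors hu
  have hE : IsDomain E := IsLocalization.isDomain_localization hle
  have hinjE : Function.Injective (algebraMap B E) := IsLocalization.injective _ hle
  let j : D →ₐ[k] E := (IsScalarTower.toAlgHom k B E).comp (aeval Φ)
  have hj : Function.Injective j := by
    rw [injective_iff_map_eq_zero]
    intro P hP
    refine hΦ P (hinjE ?_)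
    rw [map_zero]
    exact hP
  let := j.toRingHom.toAlgebra
  have htow : IsScalarTower k D E := .of_algebraMap_eq' j.comp_algebraMap.symm
  have hft : Algebra.FiniteType k E := by
    have h1 : Algebra.FiniteType k B := inferInstance
    have h3 : Algebra.FinitePresentation B E := IsLocalization.Away.finitePresentation u
    have h2 : Algebra.FiniteType B E := inferInstance
    exact h1.trans h2
  have hft' : Algebra.FiniteType D E := Algebra.FiniteType.of_restrictScalars_finiteType k D E
  have hfp : Algebra.FinitePresentation D E := Algebra.FinitePresentation.of_finiteType.mp hft'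
  obtain ⟨s, hs0, hs⟩ := exists_basicOpen_subset (s := Set.range (PrimeSpectrum.comap (algebraMap D E)))
    (PrimeSpectrum.isConstructible_range_comap (RingHom.finitePresentation_algebraMap.mpr hfp)) (by
      refine ⟨⊥, ?_⟩
      apply PrimeSpectrum.ext
      rw [PrimeSpectrum.comap_asIdeal]
      change RingHom.ker (algebraMap D E) = ⊥
      rw [RingHom.ker_eq_bot_iff_eq_zero]
      intro P hP
      exact (injective_iff_map_eq_zero j).1 hj P hP)
  refine ⟨s, hs0, fun y hy => ?_⟩
  let ey : D →ₐ[k] k := aeval y
  have hey : ∀ P : D, ey P = eval y P := fun P => by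
    change aeval y P = eval y P
    rw [← MvPolynomial.aeval_eq_eval]
  have hmax : (RingHom.ker ey.toRingHom).IsMaximal :=
    RingHom.ker_isMaximal_of_surjective _ fun a => ⟨C a, by
      change ey (C a) = a
      rw [hey, eval_C]⟩
  obtain ⟨q, hq⟩ := hs (show (⟨RingHom.ker ey.toRingHom, hmax.isPrime⟩ : PrimeSpectrum D) ∈ _ from by
    change s ∉ RingHom.ker ey.toRingHom
    rw [RingHom.mem_ker]
    change ¬ (ey s = 0)
    rwa [hey])
  obtain ⟨m, hm, hqm⟩ := Ideal.exists_le_maximal q.asIdeal q.isPrime.ne_top
  obtain ⟨χ, hχ⟩ := exists_point (k := k) m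
  have hcomp : ∀ P : D, eval y P = 0 → χ (j P) = 0 := by
    intro P hP
    have h1 : P ∈ q.asIdeal.comap (algebraMap D E) := by
      have h2 := congrArg PrimeSpectrum.asIdeal hq
      rw [PrimeSpectrum.comap_asIdeal] at h2
      rw [h2]
      change ey P = 0
      rwa [hey]
    have h3 : j P ∈ m := hqm h1
    rw [← hχ] at h3
    exact h3
  refine ⟨fun t => χ (algebraMap B E (X t)), ?_, ?_⟩
  · have h1 : ∀ P : B, eval (fun t => χ (algebraMap B E (X t))) P = χ (algebraMap B E P) := by
      intro P
      rw [← MvPolynomial.aeval_eq_eval]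
      have : aeval (fun t => χ (algebraMap B E (X t))) = χ.comp (IsScalarTower.toAlgHom k B E) := by
        ext t
        rw [aeval_X]
        rfl
      exact DFunLike.congr_fun this P
    rw [h1]
    have h2 : IsUnit (algebraMap B E u) := IsLocalization.Away.algebraMap_isUnit u
    exact (h2.map χ).ne_zero
  · intro i
    have h1 : ∀ P : B, eval (fun t => χ (algebraMap B E (X t))) P = χ (algebraMap B E P) := by
      intro P
      rw [← MvPolynomial.aeval_eq_eval]
      have : aeval (fun t => χ (algebraMap B E (X t))) = χ.comp (IsScalarTower.toAlgHom k B E) := by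
        ext t
        rw [aeval_X]
        rfl
      exact DFunLike.congr_fun this P
    rw [h1]
    have h2 := hcomp (X i - C (y i)) (by simp)
    have h3 : j (X i - C (y i)) = algebraMap B E (Φ i) - algebraMap k E (y i) := by
      rw [map_sub]
      congr 1
      · change algebraMap B E (aeval Φ (X i)) = _
        rw [aeval_X]
      · change j (algebraMap k D (y i)) = _
        exact j.commutes _
    rw [h3, map_sub, AlgHom.commutes, sub_eq_zero] at h2
    exact h2

end K271.GenLift
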