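import Groth.Agent.Fano.K271.HExH9
import Groth.Agent.Fano.K714.DimMv
import Groth.Agent.Ega4B.DimFT

/-!
# Node H10: the slice has at least the expected dimension
-/

set_option autoImplicit false

universe u

open CategoryTheory AlgebraicGeometry

namespace K271.HEx

open MvPolynomial K745.ConDef K745.HDef Groth.Agent.Lefpen.H701 Groth.Agent.Lefpen.H702.PolyFun

/-- A strictly monotone map for the specialization order bounds the Krull dimension. -/
theorem krullDim_le_topologicalKrullDim {Y X : Type*} [Preorder Y] [TopologicalSpace X] (g : Y → X)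
    (h : ∀ a b, a < b → g a ⤳ g b ∧ ¬ g b ⤳ g a) :
    Order.krullDim Y ≤ topologicalKrullDim X := by
  rw [topologicalKrullDim, ← Order.krullDim_orderDual (α := TopologicalSpace.IrreducibleCloseds X)]
  let φ : Y → (TopologicalSpace.IrreducibleCloseds X)ᵒᵈ := fun y => OrderDual.toDual
    ⟨closure {g y}, isIrreducible_singleton.closure, isClosed_closure⟩
  refine Order.krullDim_le_of_strictMono φ ?_
  intro a b hab
  obtain ⟨h1, h2⟩ := h a b hab
  rw [specializes_iff_mem_closure] at h1 h2
  change (⟨closure {g b}, _, _⟩ : TopologicalSpace.IrreducibleCloseds X) < ⟨closure {g a}, _, _⟩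
  rw [lt_iff_le_not_ge]
  constructor
  · intro z hz
    exact closure_minimal (Set.singleton_subset_iff.2 h1) isClosed_closure hz
  · intro hle
    exact h2 (hle (subset_closure (Set.mem_singleton (g a))))

/-- Pulling back chains along a surjection `R → S / P`, into a set of primes stable under generization. -/
theorem le_topologicalKrullDim_of_surjective {R D : Type u} [CommRing R] [CommRing D] (θ : R →+* D)
    (hθ : Function.Surjective θ) (Z : Set (PrimeSpectrum R)) (m : PrimeSpectrum D)
    (hZ : ∀ q : PrimeSpectrum D, q ≤ m → PrimeSpectrum.comap θ q ∈ Z) :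
    ((Order.height m : ℕ∞) : WithBot ℕ∞) ≤ topologicalKrullDim Z := by
  rw [Order.height_eq_krullDim_Iic]
  refine krullDim_le_topologicalKrullDim (fun q : Set.Iic m => (⟨PrimeSpectrum.comap θ q.1, hZ q.1 q.2⟩ : Z)) ?_
  intro a b hab
  have hab' : a.1 < b.1 := hab
  have hle : ∀ a b : PrimeSpectrum D, PrimeSpectrum.comap θ a ≤ PrimeSpectrum.comap θ b ↔ a ≤ b := by
    intro a b
    constructor
    · intro h x hx
      obtain ⟨y, rfl⟩ := hθ x
      exact h hx
    · intro h
      exact Ideal.comap_mono h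
  rw [subtype_specializes_iff, subtype_specializes_iff, ← PrimeSpectrum.le_iff_specializes,
    ← PrimeSpectrum.le_iff_specializes, hle, hle]
  exact ⟨hab'.le, not_le_of_gt hab'⟩

section Slice

variable {k : Type u} [Field k] {n d : ℕ}

/-- The variables of the slice. -/
abbrev Tv (n : ℕ) : Type := Fin 5 ⊕ ({l : Fin (n + 1) // 3 ≤ l.val} × Fin 3)

theorem card_Tv (hn : 2 ≤ n) : Nat.card (Tv n) = 3 * n - 1 := by
  have h1 : Fintype.card {l : Fin (n + 1) // 3 ≤ l.val} = n - 2 := by
    have e : {l : Fin (n + 1) // 3 ≤ l.val} ≃ Fin (n - 2) :=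
      { toFun := fun l => ⟨l.1.val - 3, by have := l.2; have := l.1.2; omega⟩
        invFun := fun i => ⟨⟨i.val + 3, by have := i.2; omega⟩, by simp⟩
        left_inv := fun l => by
          apply Subtype.ext
          apply Fin.ext
          have := l.2
          simp only
          omega
        right_inv := fun i => by
          apply Fin.ext
          simp }
    rw [Fintype.card_congr e, Fintype.card_fin]
  rw [Nat.card_eq_fintype_card, Fintype.card_sum, Fintype.card_prod, h1, Fintype.card_fin, Fintype.card_fin]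
  omega

/-- The polynomial ring of the slice. -/
abbrev SR (n : ℕ) (k : Type u) [Field k] : Type u := MvPolynomial (Tv n) k

/-- The universal matrix of the slice. -/
noncomputable def fS (n : ℕ) (k : Type u) [Field k] (l : Fin (n + 1)) (j : Fin 3) : SR n k :=
  if h : 3 ≤ l.val then X (Sum.inr (⟨l, h⟩, j)) else if l.val = j.val then 1 else 0

/-- The universal conic of the slice. -/
noncomputable def cS (n : ℕ) (k : Type u) [Field k] (i : Fin 5) : SR n k := X (Sum.inl i)

theorem fS_row3 (hn : 2 ≤ n) (i j : Fin 3) : fS n k (row3 hn i) j = if i = j then 1 else 0 := by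
  have h1 : ¬ 3 ≤ (row3 hn i).val := by
    have := i.2
    have h2 : (row3 hn i).val = i.val := rfl
    omega
  have h2 : (row3 hn i).val = i.val := rfl
  rw [fS, dif_neg h1, h2]
  simp only [Fin.ext_iff]

/-- The index set of the equations. -/
abbrev EqI (d : ℕ) : Type := {p : ℕ × (Fin 2 →₀ ℕ) // p.1 < 2 ∧ p.1 + p.2.degree = d}

/-- There are at most `2 d + 1` equations. -/
theorem finite_card_EqI (d : ℕ) : Finite (EqI d) ∧ Nat.card (EqI d) ≤ 2 * d + 1 := by
  let f : EqI d → Fin (d + 1) ⊕ Fin d := fun p =>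
    if h : p.1.1 = 0 then Sum.inl ⟨p.1.2 0, by
      have h2 := p.2.2
      rw [Finsupp.degree_eq_sum, Fin.sum_univ_two] at h2
      omega⟩
    else Sum.inr ⟨p.1.2 0, by
      have h1 := p.2.1
      have h2 := p.2.2
      rw [Finsupp.degree_eq_sum, Fin.sum_univ_two] at h2
      omega⟩
  have hf : Function.Injective f := by
    rintro ⟨⟨m, e⟩, h1, h2⟩ ⟨⟨m', e'⟩, h1', h2'⟩ h
    simp only at h1 h2 h1' h2'
    rw [Finsupp.degree_eq_sum, Fin.sum_univ_two] at h2 h2'
    have key : m = m' ∧ e 0 = e' 0 := by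
      by_cases hm : m = 0 <;> by_cases hm' : m' = 0
      · simp only [f, hm, hm', dif_pos, Sum.inl.injEq, Fin.mk.injEq] at h
        exact ⟨by omega, h⟩
      · simp [f, hm, hm'] at h
      · simp [f, hm, hm'] at h
      · simp only [f, hm, hm', dif_neg, not_false_eq_true, Sum.inr.injEq, Fin.mk.injEq] at h
        exact ⟨by omega, h⟩
    obtain ⟨rfl, h3⟩ := key
    have h4 : e = e' := by
      ext i
      fin_cases i
      · exact h3
      · change e 1 = e' 1
        omega
    subst h4
    rfl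
  have hfin : Finite (EqI d) := Finite.of_injective f hf
  refine ⟨hfin, ?_⟩
  have h5 := Nat.card_le_card_of_injective f hf
  rw [Nat.card_eq_fintype_card (α := Fin (d + 1) ⊕ Fin d), Fintype.card_sum, Fintype.card_fin, Fintype.card_fin] at h5
  omega

/-- The homomorphism from `RC G` to a quotient of the ring of the slice. -/
theorem exists_theta (G : MvPolynomial (Fin (n + 1)) k) (P : Ideal (SR n k))
    (hP : ∀ m e, remCoeff (cS n k) (subF C G (fS n k)) m e ∈ P) :
    ∃ θ : RC G →+* SR n k ⧸ P, Function.Surjective θ ∧ (∀ r, θ (algebraMap k (RC G) r) = Ideal.Quotient.mk P (C r)) ∧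
      (∀ i, θ (mkR G (cU n k i)) = Ideal.Quotient.mk P (cS n k i)) ∧
      ∀ l j, θ (mkR G (φU n k l j)) = Ideal.Quotient.mk P (fS n k l j) := by
  let π := Ideal.Quotient.mk P
  have hdvd : qf (fun i => π (cS n k i)) ∣ subF (π.comp C) G (fun l j => π (fS n k l j)) := by
    rw [dvd_iff_remCoeff]
    intro m e
    rw [← map_subF, ← map_remCoeff]
    exact Ideal.Quotient.eq_zero_iff_mem.2 (hP m e)
  obtain ⟨θ, hθ⟩ := exists_RC (π.comp C) G _ _ hdvd
  have hr : ∀ r, θ (algebraMap k (RC G) r) = π (C r) := fun r => by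
    have := hθ (C r)
    rw [eval₂_C] at this
    exact this
  have hc : ∀ i, θ (mkR G (cU n k i)) = π (cS n k i) := fun i => by
    rw [hθ]
    exact eval₂_X _ _ _
  have hf : ∀ l j, θ (mkR G (φU n k l j)) = π (fS n k l j) := fun l j => by
    rw [hθ]
    exact eval₂_X _ _ _
  refine ⟨θ, ?_, hr, hc, hf⟩
  have hsur : ∀ a : SR n k, ∃ b, θ b = π a := by
    intro a
    induction a using MvPolynomial.induction_on with
    | C a => exact ⟨_, hr a⟩
    | add p q hp hq =>
      obtain ⟨b, hb⟩ := hp
      obtain ⟨b', hb'⟩ := hq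
      exact ⟨b + b', by rw [map_add, map_add, hb, hb']⟩
    | mul_X p t hp =>
      obtain ⟨b, hb⟩ := hp
      obtain ⟨b', hb'⟩ : ∃ b', θ b' = π (X t) := by
        rcases t with i | ⟨l, j⟩
        · exact ⟨_, hc i⟩
        · refine ⟨_, (hf l.1 j).trans ?_⟩
          rw [fS, dif_pos l.2]
      exact ⟨b * b', by rw [map_mul, map_mul, hb, hb']⟩
  intro x
  obtain ⟨a, rfl⟩ := Ideal.Quotient.mk_surjective x
  exact hsur a

/-- The dimension of the slice at a rational point. -/
theorem le_dim_SG (hn : 2 ≤ n) (hdn : d + 3 ≤ n) (G : MvPolynomial (Fin (n + 1)) k) (hG : G.IsHomogeneous d)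
    (α : RC G →+* k) (p : PrimeSpectrum (RC G)) (hp : p.asIdeal = RingHom.ker α)
    (hα : α.comp (algebraMap k (RC G)) = RingHom.id k) (hpS : p ∈ SG G) :
    ((3 * n - 2 * d - 2 : ℕ) : WithBot ℕ∞) ≤ topologicalKrullDim (SG G) := by
  classical
  -- the equations
  let g : EqI d → SR n k := fun q => remCoeff (cS n k) (subF C G (fS n k)) q.1.1 q.1.2
  obtain ⟨hfin, hcard⟩ := finite_card_EqI d
  let _ := Fintype.ofFinite (EqI d)
  let s : Finset (SR n k) := Finset.univ.image g
  have hs : s.card ≤ 2 * d + 1 := by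
    refine Finset.card_image_le.trans ?_
    rwa [Finset.card_univ, ← Nat.card_eq_fintype_card]
  have hJ : ∀ m e, remCoeff (cS n k) (subF C G (fS n k)) m e ∈ Ideal.span (s : Set (SR n k)) := by
    intro m e
    by_cases h : m < 2 ∧ m + e.degree = d
    · exact Ideal.subset_span (Finset.mem_coe.2 (Finset.mem_image.2 ⟨⟨(m, e), h⟩, Finset.mem_univ _, rfl⟩))
    · rw [remCoeff_eq_zero _ (isHomogeneous_subF C hG (fS n k)) m e h]
      exact Ideal.zero_mem _
  -- the point
  let a : SR n k →+* k := eval₂Hom (RingHom.id k) (Sum.elim (fun i => α (mkR G (cU n k i)))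
    fun q => α (mkR G (φU n k q.1.1 q.2)))
  have hac : ∀ i, a (cS n k i) = α (mkR G (cU n k i)) := fun i => eval₂_X _ _ _
  have haf : ∀ l j, a (fS n k l j) = α (mkR G (φU n k l j)) := by
    intro l j
    unfold fS
    split_ifs with h1 h2
    · exact eval₂_X _ _ _
    · have h3 := hpS.2 ⟨l.val, by omega⟩ j l rfl
      rw [hp, RingHom.mem_ker, map_sub, map_sub, sub_eq_zero, if_pos (Fin.ext h2)] at h3
      rw [h3, map_one, map_one, map_one]
    · have h3 := hpS.2 ⟨l.val, by omega⟩ j l rfl
      rw [hp, RingHom.mem_ker, map_sub, map_sub, sub_eq_zero, if_neg (fun h => h2 (congrArg Fin.val h))] at h3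
      rw [h3, map_zero, map_zero, map_zero]
  have haC : a.comp C = RingHom.id k := by
    ext r
    exact eval₂_C _ _ _
  have hsur : Function.Surjective a := fun r => ⟨C r, DFunLike.congr_fun haC r⟩
  have hmax : (RingHom.ker a).IsMaximal := RingHom.ker_isMaximal_of_surjective a hsur
  have haJ : ∀ m e, a (remCoeff (cS n k) (subF C G (fS n k)) m e) = 0 := by
    intro m e
    rw [map_remCoeff, map_subF, haC]
    have h1 : subF (RingHom.id k) G (fun l j => a (fS n k l j)) =
        (subF C G (φU n k)).map (α.comp (mkR G)) := by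
      rw [map_subF]
      have h2 : (α.comp (mkR G)).comp C = RingHom.id k := hα
      rw [h2]
      congr 1
      funext l j
      exact haf l j
    have h3 : (fun i => a (cS n k i)) = fun i => (α.comp (mkR G)) (cU n k i) := funext hac
    have h4 : remCoeff (cU n k) (subF C G (φU n k)) m e ∈ conIdeal G := Ideal.subset_span ⟨m, e, rfl⟩
    rw [h1, h3, ← map_remCoeff, RingHom.comp_apply, Ideal.Quotient.eq_zero_iff_mem.2 h4, map_zero]
  have hJle : Ideal.span (s : Set (SR n k)) ≤ RingHom.ker a := by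
    rw [Ideal.span_le]
    intro x hx
    obtain ⟨q, _, rfl⟩ := Finset.mem_image.1 (Finset.mem_coe.1 hx)
    exact haJ _ _
  obtain ⟨P, hPmin, hPle⟩ := Ideal.exists_minimalPrimes_le hJle
  have hPp : P.IsPrime := hPmin.1.1
  have hheight : P.height ≤ (2 * d + 1 : ℕ) :=
    (Ideal.height_le_card_of_mem_minimalPrimes_span_finset hPmin).trans (by exact_mod_cast hs)
  obtain ⟨D, h, hD, _, hh, hhD⟩ := K714.DimMv.exists_nat_dim P
  rw [hh] at hheight
  have hheight' : h ≤ 2 * d + 1 := by exact_mod_cast hheight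
  rw [card_Tv hn] at hhD
  have hDge : 3 * n - 2 * d - 2 ≤ D := by omega
  -- the homomorphism to `SR / P`
  obtain ⟨θ, hθs, hθr, hθc, hθf⟩ := exists_theta G P fun m e => hPmin.1.2 (hJ m e)
  let M : Ideal (SR n k ⧸ P) := (RingHom.ker a).map (Ideal.Quotient.mk P)
  have hcM : M.comap (Ideal.Quotient.mk P) = RingHom.ker a := by
    rw [Ideal.comap_map_of_surjective _ Ideal.Quotient.mk_surjective, ← RingHom.ker_eq_comap_bot, Ideal.mk_ker]
    exact sup_eq_left.mpr hPle
  have hM : M.IsMaximal := by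
    refine (Ideal.map_eq_top_or_isMaximal_of_surjective _ Ideal.Quotient.mk_surjective hmax).resolve_left fun h => ?_
    apply hmax.ne_top
    rw [← hcM]
    change Ideal.comap _ ((RingHom.ker a).map (Ideal.Quotient.mk P)) = ⊤
    rw [h, Ideal.comap_top]
  have hMp : M.IsPrime := hM.isPrime
  have h1 : ((M.height : ℕ∞) : WithBot ℕ∞) = ringKrullDim (SR n k ⧸ P) :=
    Groth.Agent.Ega4B.DimFT.height_maximal k (SR n k ⧸ P) M
  have h2 : ((3 * n - 2 * d - 2 : ℕ) : WithBot ℕ∞) ≤ ((M.height : ℕ∞) : WithBot ℕ∞) := by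
    rw [h1, hD]
    exact_mod_cast hDge
  refine h2.trans ?_
  have h3 : M.height = Order.height (⟨M, hMp⟩ : PrimeSpectrum (SR n k ⧸ P)) :=
    PrimeSpectrum.height_eq_orderHeight (⟨M, hMp⟩ : PrimeSpectrum (SR n k ⧸ P))
  rw [h3]
  have h4 : PrimeSpectrum.comap θ ⟨M, hMp⟩ = p := by
    apply PrimeSpectrum.ext
    rw [hp]
    have h5 : ∀ b : AC n k, ∃ b' : SR n k, θ (mkR G b) = Ideal.Quotient.mk P b' ∧ a b' = α (mkR G b) := by
      intro b
      induction b using MvPolynomial.induction_on with
      | C r =>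
        refine ⟨C r, hθr r, ?_⟩
        rw [show α (mkR G (C r)) = r from DFunLike.congr_fun hα r]
        exact DFunLike.congr_fun haC r
      | add b c hb hc =>
        obtain ⟨b', h6, h7⟩ := hb
        obtain ⟨c', h8, h9⟩ := hc
        exact ⟨b' + c', by rw [map_add, map_add, map_add, h6, h8], by rw [map_add, map_add, map_add, h7, h9]⟩
      | mul_X b t hb =>
        obtain ⟨b', h6, h7⟩ := hb
        obtain ⟨c', h8, h9⟩ : ∃ c' : SR n k, θ (mkR G (X t)) = Ideal.Quotient.mk P c' ∧ a c' = α (mkR G (X t)) := by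
          rcases t with i | ⟨l, j⟩
          · exact ⟨_, hθc i, hac i⟩
          · exact ⟨_, hθf l j, haf l j⟩
        exact ⟨b' * c', by rw [map_mul, map_mul, map_mul, h6, h8], by rw [map_mul, map_mul, map_mul, h7, h9]⟩
    ext x
    obtain ⟨b, rfl⟩ := Ideal.Quotient.mk_surjective x
    obtain ⟨b', h6, h7⟩ := h5 b
    change θ (mkR G b) ∈ M ↔ α (mkR G b) = 0
    rw [h6, ← h7, ← Ideal.mem_comap, hcM, RingHom.mem_ker]
  refine le_topologicalKrullDim_of_surjective θ hθs (SG G) ⟨M, hMp⟩ fun q hq => ?_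
  have h5 : PrimeSpectrum.comap θ q ≤ p := by
    rw [← h4]
    exact Ideal.comap_mono hq
  refine ⟨?_, ?_⟩
  · exact ((PrimeSpectrum.le_iff_specializes _ _).1 h5).mem_open (VO G).2 hpS.1
  · intro i j l hl
    change θ (mkR G (φU n k l j - if i = j then 1 else 0)) ∈ q.asIdeal
    have h6 : l = row3 hn i := Fin.ext hl
    rw [map_sub, map_sub, hθf, h6, fS_row3]
    split_ifs <;> simp

/-- Node H10. -/
theorem isGeneric_slice [IsAlgClosed k] [CharZero k] (hd : 1 ≤ d) (hdn : d + 3 ≤ n) :
    LefPen.IsGeneric k {G : LefPen.Form n k d |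
      ((3 * n - 2 * d - 2 : ℕ) : WithBot ℕ∞) ≤ topologicalKrullDim (SG G.1)} := by
  refine IsGeneric.mono (isGeneric_pt (by omega) hd hdn) ?_
  rintro G ⟨α, p, h1, h2, h5, _⟩
  exact le_dim_SG (by omega) hdn G.1 ((mem_homogeneousSubmodule _ _).1 G.2) α p h1 h2 h5

end Slice

end K271.HEx
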