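import Groth.Agent.Fano.K745.HDef
import Groth.Agent.Fano.K713.SmoothGen
import Groth.Agent.Lefpen.H705.HypSmooth
import Mathlib.RingTheory.Nullstellensatz

/-!
# Node H11: general hypersurfaces are smooth
-/

set_option autoImplicit false

universe u

open CategoryTheory AlgebraicGeometry

namespace K271.HEx

open MvPolynomial W4swstmapratcurves Groth.Agent.Lefpen.H701 Groth.Agent.Lefpen.H702.PolyFun

variable {k : Type u} [Field k] {n d : ℕ}

theorem smooth_of_pointwise [IsAlgClosed k] (G : LefPen.Form n k d)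
    (h : ∀ v : Fin (n + 1) → k, v ≠ 0 → eval v G.1 = 0 → ∃ i, eval v (pderiv i G.1) ≠ 0) :
    Smooth (hypOver G).hom := by
  refine Groth.Agent.Lefpen.H705.HypSmooth.smooth_hyp_of_X_pow_mem G fun j => ?_
  change X j ∈ (Ideal.span ({G.1} ∪ Set.range fun i => pderiv i G.1)).radical
  rw [← MvPolynomial.vanishingIdeal_zeroLocus_eq_radical (K := k), MvPolynomial.mem_vanishingIdeal_iff]
  intro v hv
  rw [MvPolynomial.mem_zeroLocus_iff] at hv
  have h1 : eval v G.1 = 0 := by
    have := hv G.1 (Ideal.subset_span (Or.inl rfl))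
    rwa [MvPolynomial.aeval_eq_eval] at this
  have h2 : ∀ i, eval v (pderiv i G.1) = 0 := fun i => by
    have := hv (pderiv i G.1) (Ideal.subset_span (Or.inr ⟨i, rfl⟩))
    rwa [MvPolynomial.aeval_eq_eval] at this
  by_cases hv0 : v = 0
  · rw [aeval_X, hv0, Pi.zero_apply]
  · obtain ⟨i, hi⟩ := h v hv0 h1
    exact absurd (h2 i) hi

theorem isGeneric_ne_zero [Infinite k] : LefPen.IsGeneric k {G : LefPen.Form n k d | G ≠ 0} := by
  let s : FI n d := ⟨Finsupp.single 0 d, Finsupp.degree_single _ _⟩
  refine isGeneric_of_mvPolynomial (formCoords n k d) (X_ne_zero s) fun G hG h0 => hG ?_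
  rw [h0, aeval_X, map_zero]
  rfl

/-- Node H11. -/
theorem isGeneric_smooth [IsAlgClosed k] [CharZero k] (hd : 1 ≤ d) (hdn : d + 3 ≤ n) :
    LefPen.IsGeneric k {G : LefPen.Form n k d | G ≠ 0 ∧ Smooth (hypOver G).hom} := by
  have : Infinite k := IsAlgClosed.instInfinite
  by_cases hd2 : 2 ≤ d
  · have h1 := K713.SmoothGen.isGeneric_smooth (k := k) n d hd2 ⊥ (by simp) ⊤ (fun G => by
      refine ⟨fun _ u hu => ?_, fun _ => trivial⟩
      rw [(Submodule.mem_bot k).1 hu]
      have hG : G.1.IsHomogeneous d := (mem_homogeneousSubmodule _ _).1 G.2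
      have h2 := hG.coeff_eq_zero (d := 0) (by simp; omega)
      rw [MvPolynomial.eval_zero]
      exact h2)
    have h3 := IsGeneric.preimage (V := (⊤ : Submodule k (LefPen.Form n k d)))
      (Submodule.topEquiv (R := k) (M := LefPen.Form n k d)).symm.toLinearMap
      (Submodule.topEquiv (R := k) (M := LefPen.Form n k d)).symm.surjective h1
    refine IsGeneric.mono (IsGeneric.inter isGeneric_ne_zero h3) ?_
    rintro G ⟨hG0, hG⟩
    exact ⟨hG0, smooth_of_pointwise G hG⟩
  · refine IsGeneric.mono isGeneric_ne_zero ?_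
    intro G hG0
    refine ⟨hG0, smooth_of_pointwise G fun v _ _ => ?_⟩
    obtain rfl : d = 1 := by omega
    have hG : G.1.IsHomogeneous 1 := (mem_homogeneousSubmodule _ _).1 G.2
    by_contra hcon
    push Not at hcon
    apply hG0
    apply Subtype.ext
    ext m
    rw [ZeroMemClass.coe_zero, coeff_zero]
    by_cases hm : m.degree = 1
    · obtain ⟨i, rfl⟩ : ∃ i, Finsupp.single i 1 = m := by
        have h1 : m ∈ Set.range (fun a : Fin (n + 1) ↦ Finsupp.single a 1) := by
          rw [Finsupp.range_single_one]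
          exact hm
        exact h1
      have h2 : pderiv i G.1 = C (coeff (Finsupp.single i 1) G.1) := by
        ext m'
        rw [coeff_pderiv, coeff_C]
        split_ifs with h3
        · rw [← h3]
          simp
        · rw [hG.coeff_eq_zero, zero_mul]
          intro h4
          rw [map_add, Finsupp.degree_single] at h4
          exact h3 ((Finsupp.degree_eq_zero_iff m').1 (by omega)).symm
      have h3 := hcon i
      rwa [h2, eval_C] at h3
    · exact hG.coeff_eq_zero hm

end K271.HEx
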