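import Groth.Agent.Fano.K271.HExUn

/-!
# Nodes H9: a general hypersurface contains an unobstructed conic (in the slice)
-/

set_option autoImplicit false

universe u

open CategoryTheory AlgebraicGeometry

namespace K271.HEx

open MvPolynomial K745.ConDef K745.HDef Groth.Agent.Lefpen.H701 Groth.Agent.Lefpen.H702.PolyFun

theorem monomial_decomp {S : Type u} [CommRing S] {d : ℕ} {F : MvPolynomial (Fin 3) S} (hF : F.IsHomogeneous d) :
    ∑ e : FI 2 d, C (coeff e.1 F) * monomial e.1 1 = F := by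
  have h := sum_monomial_coeff (R := S) (fun e : Fin 3 →₀ ℕ => e.degree = d) F fun e he => by
    by_contra hne
    exact he (hF.coeff_eq_zero hne)
  conv_rhs => rw [← h]
  refine Finset.sum_congr rfl fun e _ => ?_
  rw [C_mul_monomial, mul_one]

theorem lin3_sum {S : Type u} [CommRing S] {ι : Type*} (s : Finset ι) (v : ι → Fin 3 → S) :
    lin3 (∑ e ∈ s, v e) = ∑ e ∈ s, lin3 (v e) := by
  classical
  induction s using Finset.induction_on with
  | empty => simp [lin3_zero]
  | insert a s ha ih => rw [Finset.sum_insert ha, Finset.sum_insert ha, lin3_add, ih]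

/-- Unobstructedness is preserved by extensions of the ring. -/
theorem unob_map {S T R : Type u} [CommRing S] [CommRing T] [CommRing R] {n d : ℕ} (β : S →+* T) (ρ : R →+* S)
    (G : MvPolynomial (Fin (n + 1)) R) (c : Fin 5 → S) (φ : Fin (n + 1) → Fin 3 → S) (h : Unob d ρ G c φ) :
    Unob d (β.comp ρ) G (fun i => β (c i)) (fun l i => β (φ l i)) := by
  intro F hF
  choose v H hvH using fun e : FI 2 d => h (monomial e.1 1) (isHomogeneous_monomial _ e.2)
  have h1 : ∀ e : FI 2 d, (monomial e.1 (1 : T) : MvPolynomial (Fin 3) T) =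
      ∑ l, dG (β.comp ρ) G (fun l i => β (φ l i)) l * lin3 (fun i => β (v e l i)) +
        (H e).map β * qf (fun i => β (c i)) := by
    intro e
    have h2 := congrArg (MvPolynomial.map β) (hvH e)
    rw [map_monomial, map_one, map_add, map_mul, map_sum, map_qf] at h2
    rw [h2]
    congr 1
    refine Finset.sum_congr rfl fun l _ => ?_
    rw [map_mul, map_lin3, dG, map_subF]
    rfl
  refine ⟨fun l => ∑ e : FI 2 d, coeff e.1 F • fun i => β (v e l i), ∑ e : FI 2 d, C (coeff e.1 F) * (H e).map β, ?_⟩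
  conv_lhs => rw [← monomial_decomp hF]
  simp only [lin3_sum, lin3_smul]
  rw [Finset.sum_congr rfl fun e _ => by rw [h1 e]]
  simp only [mul_add, Finset.sum_add_distrib, Finset.mul_sum, Finset.sum_mul, mul_assoc]
  congr 1
  rw [Finset.sum_comm]
  refine Finset.sum_congr rfl fun l _ => Finset.sum_congr rfl fun e _ => ?_
  ring

section Point

variable {k : Type u} [Field k] {n d : ℕ}

theorem det3_row3 (hn : 2 ≤ n) {R : Type u} [CommRing R] {φ : Fin (n + 1) → Fin 3 → R}
    (hφ : ∀ (i j : Fin 3), φ (row3 hn i) j = if i = j then 1 else 0) : det3 φ (row3 hn) = 1 := by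
  rw [det3]
  have : (Matrix.of fun i j => φ (row3 hn i) j) = (1 : Matrix (Fin 3) (Fin 3) R) := by
    ext i j
    rw [Matrix.of_apply, hφ, Matrix.one_apply]
  rw [this, Matrix.det_one]

theorem map_det3 {A B : Type u} [CommRing A] [CommRing B] (f : A →+* B) (φ : Fin (n + 1) → Fin 3 → A)
    (l : Fin 3 → Fin (n + 1)) : f (det3 φ l) = det3 (fun l i => f (φ l i)) l := by
  rw [det3, det3, RingHom.map_det]
  rfl

/-- The point of the slice defined by `(c, φ)`. -/
theorem exists_pt (hn : 2 ≤ n) (G : MvPolynomial (Fin (n + 1)) k) (c : Fin 5 → k) (φ : Fin (n + 1) → Fin 3 → k)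
    (hφ : ∀ (i j : Fin 3), φ (row3 hn i) j = if i = j then 1 else 0) (hd : qf c ∣ subF (RingHom.id k) G φ)
    (hc : disc3 c 1 ≠ 0) :
    ∃ (α : RC G →+* k) (p : PrimeSpectrum (RC G)), p.asIdeal = RingHom.ker α ∧
      α.comp (algebraMap k (RC G)) = RingHom.id k ∧ (∀ i, α (mkR G (cU n k i)) = c i) ∧
      (∀ l i, α (mkR G (φU n k l i)) = φ l i) ∧ p ∈ SG G ∧
      (Unob d (RingHom.id k) G c φ → UnobPt d G p) := by
  obtain ⟨α, hα⟩ := exists_RC (RingHom.id k) G c φ hd
  have hαk : α.comp (algebraMap k (RC G)) = RingHom.id k := by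
    ext r
    have := hα (C r)
    rw [eval₂_C] at this
    exact this
  have hαc : ∀ i, α (mkR G (cU n k i)) = c i := fun i => by
    rw [hα]
    exact eval₂_X _ _ _
  have hαφ : ∀ l i, α (mkR G (φU n k l i)) = φ l i := fun l i => by
    rw [hα]
    exact eval₂_X _ _ _
  obtain ⟨p, hp⟩ : ∃ p : PrimeSpectrum (RC G), p.asIdeal = RingHom.ker α :=
    ⟨⟨RingHom.ker α, RingHom.ker_isPrime α⟩, rfl⟩
  refine ⟨α, p, hp, hαk, hαc, hαφ, ⟨?_, ?_⟩, ?_⟩
  · refine TopologicalSpace.Opens.mem_iSup.2 ⟨(1, Sum.inl (row3 hn)), ?_⟩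
    change mkR G (regPoly (cU n k) (φU n k) (1, Sum.inl (row3 hn))) ∉ p.asIdeal
    rw [hp, RingHom.mem_ker]
    change ¬ ((α.comp (mkR G)) (disc3 (cU n k) 1 * det3 (φU n k) (row3 hn)) = 0)
    rw [map_mul, map_disc3, map_det3]
    have h1 : (fun i => (α.comp (mkR G)) (cU n k i)) = c := funext hαc
    have h2 : (fun l i => (α.comp (mkR G)) (φU n k l i)) = φ := funext fun l => funext fun i => hαφ l i
    rw [h1, h2, det3_row3 hn hφ, mul_one]
    exact hc
  · intro i j l hl
    have h1 : l = row3 hn i := Fin.ext hl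
    rw [hp, RingHom.mem_ker, map_sub, map_sub, hαφ, h1, hφ]
    split_ifs <;> simp
  · intro hU
    let β : k →+* p.asIdeal.ResidueField := (algebraMap (RC G) p.asIdeal.ResidueField).comp (algebraMap k (RC G))
    have hβ : algebraMap (RC G) p.asIdeal.ResidueField = β.comp α := by
      refine RingHom.ext fun a => ?_
      rw [RingHom.comp_apply, ← sub_eq_zero]
      change algebraMap (RC G) p.asIdeal.ResidueField a -
        algebraMap (RC G) p.asIdeal.ResidueField (algebraMap k (RC G) (α a)) = 0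
      rw [← map_sub, Ideal.algebraMap_residueField_eq_zero]
      rw [hp, RingHom.mem_ker, map_sub]
      have := DFunLike.congr_fun hαk (α a)
      change α (algebraMap k (RC G) (α a)) = α a at this
      rw [this, sub_self]
    have h1 := unob_map β (RingHom.id k) G c φ hU
    rw [UnobPt, UnobAt, hβ, RingHom.comp_assoc, hαk]
    have h3 : (fun i => (β.comp α) (mkR G (cU n k i))) = fun i => β (c i) := by
      funext i
      rw [RingHom.comp_apply, hαc]
    have h4 : (fun l i => (β.comp α) (mkR G (φU n k l i))) = fun l i => β (φ l i) := by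
      funext l i
      rw [RingHom.comp_apply, hαφ]
    rw [h3, h4]
    exact h1

/-- A general hypersurface contains an unobstructed conic in the slice. -/
theorem isGeneric_pt [IsAlgClosed k] [CharZero k] (hn : 2 ≤ n) (hd : 1 ≤ d) (hdn : d + 3 ≤ n) :
    LefPen.IsGeneric k {G : LefPen.Form n k d | ∃ (α : RC G.1 →+* k) (p : PrimeSpectrum (RC G.1)),
      p.asIdeal = RingHom.ker α ∧ α.comp (algebraMap k (RC G.1)) = RingHom.id k ∧ p ∈ SG G.1 ∧ UnobPt d G.1 p} := by
  refine IsGeneric.mono (isGeneric_par hn hd hdn) ?_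
  rintro G ⟨x, hx, hc, hU⟩
  obtain ⟨α, p, h1, h2, _, _, h5, h6⟩ := exists_pt (d := d) hn G.1 (pc x) (pf x) (pf_row3 hn x)
    (by rw [← hx, subF_PF]; exact dvd_mul_right _ _) hc
  exact ⟨α, p, h1, h2, h5, h6 hU⟩

/-- Node H9. -/
theorem isGeneric_unobPt [IsAlgClosed k] [CharZero k] (hd : 1 ≤ d) (hdn : d + 3 ≤ n) :
    LefPen.IsGeneric k {G : LefPen.Form n k d | ∃ p ∈ VO G.1, UnobPt d G.1 p} := by
  refine IsGeneric.mono (isGeneric_pt (by omega) hd hdn) ?_
  rintro G ⟨α, p, _, _, h5, h6⟩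
  exact ⟨p, h5.1, h6⟩

end Point

end K271.HEx
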