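import Groth.Agent.Fano.K745.HDef
import Groth.Agent.Fano.K713.LineExists
import Groth.Agent.Fano.K271.GenLift

/-!
# The forms `qf c * A + ∑_l (X_l - ψ_l(X_0, X_1, X_2)) B_l`

These are the forms vanishing on the image of the conic `qf c = 0` under the map with first three rows the identity and the
other rows `ψ`.  `Tau n d`: the parameters `(c, ψ, A, B)`; `PF hn x`: the form.
-/

set_option autoImplicit false

universe u

namespace K271.HEx

open MvPolynomial K745.ConDef K745.HDef Groth.Agent.Lefpen.H701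

section Defs

/-- Exponents of degree `d - 2` in three variables (none if `d < 2`). -/
abbrev EA (d : ℕ) : Type := {e : Fin 3 →₀ ℕ // e.degree + 2 = d}

/-- Exponents of degree `d - 1` (none if `d = 0`). -/
abbrev EB (n d : ℕ) : Type := {e : Fin (n + 1) →₀ ℕ // e.degree + 1 = d}

instance (d : ℕ) : Finite (EA d) :=
  Finite.of_injective (β := FI 2 (d - 2)) (fun e => ⟨e.1, by have := e.2; omega⟩) fun e e' h => by
    apply Subtype.ext
    have h1 := congrArg Subtype.val h
    exact h1

instance (n d : ℕ) : Finite (EB n d) :=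
  Finite.of_injective (β := FI n (d - 1)) (fun e => ⟨e.1, by have := e.2; omega⟩) fun e e' h => by
    apply Subtype.ext
    have h1 := congrArg Subtype.val h
    exact h1

noncomputable instance (d : ℕ) : Fintype (EA d) := Fintype.ofFinite _

noncomputable instance (n d : ℕ) : Fintype (EB n d) := Fintype.ofFinite _

/-- The parameters `(c, ψ, A, B)`. -/
abbrev Tau (n d : ℕ) : Type := (Fin 5 ⊕ (Fin (n + 1) × Fin 3)) ⊕ (EA d ⊕ (Fin (n + 1) × EB n d))

variable {n d : ℕ} {R S : Type u} [CommRing R] [CommRing S]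

/-- The conic. -/
def pc (x : Tau n d → R) (i : Fin 5) : R := x (Sum.inl (Sum.inl i))

/-- The matrix of the map: the first three rows are the identity. -/
def pf (x : Tau n d → R) (l : Fin (n + 1)) (j : Fin 3) : R :=
  if l.val < 3 then (if l.val = j.val then 1 else 0) else x (Sum.inl (Sum.inr (l, j)))

/-- The form `A`. -/
noncomputable def pA (x : Tau n d → R) : MvPolynomial (Fin 3) R := ∑ e : EA d, monomial e.1 (x (Sum.inr (Sum.inl e)))

/-- The forms `B_l`. -/
noncomputable def pB (x : Tau n d → R) (l : Fin (n + 1)) : MvPolynomial (Fin (n + 1)) R :=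
  ∑ e : EB n d, monomial e.1 (x (Sum.inr (Sum.inr (l, e))))

/-- The linear forms vanishing on the image of the map. -/
noncomputable def pY (hn : 2 ≤ n) (φ : Fin (n + 1) → Fin 3 → R) (l : Fin (n + 1)) : MvPolynomial (Fin (n + 1)) R :=
  X l - ∑ j, C (φ l j) * X (row3 hn j)

/-- The form with parameters `x`. -/
noncomputable def PF (hn : 2 ≤ n) (x : Tau n d → R) : MvPolynomial (Fin (n + 1)) R :=
  rename (row3 hn) (qf (pc x) * pA x) + ∑ l, pY hn (pf x) l * pB x l

theorem map_pc (f : R →+* S) (x : Tau n d → R) (i : Fin 5) : pc (fun t => f (x t)) i = f (pc x i) := rfl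

theorem map_pf (f : R →+* S) (x : Tau n d → R) (l : Fin (n + 1)) (j : Fin 3) : pf (fun t => f (x t)) l j = f (pf x l j) := by
  unfold pf
  split_ifs <;> simp

theorem map_pA (f : R →+* S) (x : Tau n d → R) : pA (fun t => f (x t)) = (pA x).map f := by
  simp [pA, map_monomial]

theorem map_pB (f : R →+* S) (x : Tau n d → R) (l : Fin (n + 1)) : pB (fun t => f (x t)) l = (pB x l).map f := by
  simp [pB, map_monomial]

theorem map_pY (f : R →+* S) (hn : 2 ≤ n) (φ : Fin (n + 1) → Fin 3 → R) (l : Fin (n + 1)) :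
    pY hn (fun l j => f (φ l j)) l = (pY hn φ l).map f := by
  simp [pY]

theorem map_PF (f : R →+* S) (hn : 2 ≤ n) (x : Tau n d → R) : PF hn (fun t => f (x t)) = (PF hn x).map f := by
  have h1 : pf (fun t => f (x t)) = fun l j => f (pf x l j) := by
    funext l j
    exact map_pf f x l j
  have h2 : pc (fun t => f (x t)) = fun i => f (pc x i) := rfl
  rw [PF, PF, h1, h2, map_pA, ← map_qf, ← map_mul (MvPolynomial.map f), map_add (MvPolynomial.map f), map_rename,
    map_sum (MvPolynomial.map f)]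
  simp only [map_pB, map_pY, map_mul (MvPolynomial.map f)]

theorem isHomogeneous_qf (c : Fin 5 → R) : (qf c).IsHomogeneous 2 := by
  have h : ∀ i j : Fin 3, (X i * X j : MvPolynomial (Fin 3) R).IsHomogeneous 2 := fun i j =>
    (isHomogeneous_X R i).mul (isHomogeneous_X R j)
  have h' : ∀ i : Fin 3, (X i ^ 2 : MvPolynomial (Fin 3) R).IsHomogeneous 2 := fun i => by
    have := (isHomogeneous_X R i).pow 2
    simpa using this
  refine (((((h' 0).add ?_).add ?_).add ?_).add ?_).add ?_
  · exact (h 0 1).C_mul _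
  · exact (h 0 2).C_mul _
  · exact (h' 1).C_mul _
  · exact (h 1 2).C_mul _
  · exact (h' 2).C_mul _

theorem isHomogeneous_lin3 (v : Fin 3 → R) : (lin3 v).IsHomogeneous 1 :=
  IsHomogeneous.sum _ _ _ fun i _ => (isHomogeneous_X R i).C_mul _

theorem isHomogeneous_pY (hn : 2 ≤ n) (φ : Fin (n + 1) → Fin 3 → R) (l : Fin (n + 1)) : (pY hn φ l).IsHomogeneous 1 :=
  (isHomogeneous_X R l).sub (IsHomogeneous.sum _ _ _ fun _ _ => (isHomogeneous_X R _).C_mul _)

theorem isHomogeneous_PF (hn : 2 ≤ n) (x : Tau n d → R) : (PF hn x).IsHomogeneous d := by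
  refine IsHomogeneous.add ?_ ?_
  · refine IsHomogeneous.rename_isHomogeneous ?_
    rw [pA, Finset.mul_sum]
    refine IsHomogeneous.sum _ _ _ fun e _ => ?_
    have h := (isHomogeneous_qf (pc x)).mul (isHomogeneous_monomial (σ := Fin 3) (x (Sum.inr (Sum.inl e))) (rfl : e.1.degree = e.1.degree))
    have h2 := e.2
    convert h using 1
    omega
  · refine IsHomogeneous.sum _ _ _ fun l _ => ?_
    rw [pB, Finset.mul_sum]
    refine IsHomogeneous.sum _ _ _ fun e _ => ?_
    have h := (isHomogeneous_pY hn (pf x) l).mul (isHomogeneous_monomial (σ := Fin (n + 1)) (x (Sum.inr (Sum.inr (l, e)))) (rfl : e.1.degree = e.1.degree))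
    have h2 := e.2
    convert h using 1
    omega

/-! ### The form composed with the map -/

theorem subF_add (ρ : R →+* S) (F G : MvPolynomial (Fin (n + 1)) R) (φ : Fin (n + 1) → Fin 3 → S) :
    subF ρ (F + G) φ = subF ρ F φ + subF ρ G φ := eval₂_add _ _

theorem subF_mul (ρ : R →+* S) (F G : MvPolynomial (Fin (n + 1)) R) (φ : Fin (n + 1) → Fin 3 → S) :
    subF ρ (F * G) φ = subF ρ F φ * subF ρ G φ := eval₂_mul _ _

theorem subF_sum {ι : Type*} (ρ : R →+* S) (s : Finset ι) (F : ι → MvPolynomial (Fin (n + 1)) R)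
    (φ : Fin (n + 1) → Fin 3 → S) : subF ρ (∑ i ∈ s, F i) φ = ∑ i ∈ s, subF ρ (F i) φ :=
  map_sum (eval₂Hom (C.comp ρ) fun l => lin3 (φ l)) _ _

theorem lin3_row3 (hn : 2 ≤ n) {φ : Fin (n + 1) → Fin 3 → R}
    (hφ : ∀ (i j : Fin 3), φ (row3 hn i) j = if i = j then 1 else 0) (i : Fin 3) : lin3 (φ (row3 hn i)) = X i := by
  rw [lin3, Finset.sum_eq_single i]
  · rw [hφ, if_pos rfl, C_1, one_mul]
  · intro b _ hb
    rw [hφ, if_neg hb.symm, C_0, zero_mul]
  · simp

theorem pf_row3 (hn : 2 ≤ n) (x : Tau n d → R) (i j : Fin 3) : pf x (row3 hn i) j = if i = j then 1 else 0 := by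
  have h1 : (row3 hn i).val < 3 := i.2
  have h2 : (row3 hn i).val = i.val := rfl
  rw [pf, if_pos h1, h2]
  simp only [Fin.ext_iff]

theorem subF_rename (hn : 2 ≤ n) {φ : Fin (n + 1) → Fin 3 → R}
    (hφ : ∀ (i j : Fin 3), φ (row3 hn i) j = if i = j then 1 else 0) (F : MvPolynomial (Fin 3) R) :
    subF (RingHom.id R) (rename (row3 hn) F) φ = F := by
  rw [subF, eval₂_rename]
  have h1 : ((fun l => lin3 (φ l)) ∘ row3 hn) = (X : Fin 3 → MvPolynomial (Fin 3) R) := by
    funext i
    exact lin3_row3 hn hφ i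
  rw [h1, RingHom.comp_id, eval₂_eta]

theorem subF_pY (hn : 2 ≤ n) {φ : Fin (n + 1) → Fin 3 → R}
    (hφ : ∀ (i j : Fin 3), φ (row3 hn i) j = if i = j then 1 else 0) (l : Fin (n + 1)) :
    subF (RingHom.id R) (pY hn φ l) φ = 0 := by
  rw [pY, sub_eq_add_neg, subF_add]
  have h1 : subF (RingHom.id R) (X l) φ = lin3 (φ l) := eval₂_X _ _ _
  have h2 : subF (RingHom.id R) (-∑ j, C (φ l j) * X (row3 hn j)) φ = - lin3 (φ l) := by
    rw [subF, eval₂_neg, eval₂_sum, lin3]
    congr 1
    refine Finset.sum_congr rfl fun j _ => ?_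
    rw [eval₂_mul, eval₂_C, eval₂_X, lin3_row3 hn hφ]
    rfl
  rw [h1, h2, add_neg_cancel]

theorem subF_PF (hn : 2 ≤ n) (x : Tau n d → R) : subF (RingHom.id R) (PF hn x) (pf x) = qf (pc x) * pA x := by
  rw [PF, subF_add, subF_rename hn (pf_row3 hn x), subF_sum, Finset.sum_eq_zero, add_zero]
  intro l _
  rw [subF_mul, subF_pY hn (pf_row3 hn x), zero_mul]

theorem pderiv_rename (hn : 2 ≤ n) (F : MvPolynomial (Fin 3) R) (l : Fin (n + 1)) (hl : 3 ≤ l.val) :
    pderiv l (rename (row3 hn) F) = 0 := by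
  apply pderiv_eq_zero_of_notMem_vars
  intro h
  have h1 := vars_rename (row3 hn) F h
  rw [Finset.mem_image] at h1
  obtain ⟨i, _, hi⟩ := h1
  have := congrArg Fin.val hi
  have h2 : (row3 hn i).val = i.val := rfl
  have := i.2
  omega

theorem pderiv_pY (hn : 2 ≤ n) (φ : Fin (n + 1) → Fin 3 → R) (l m : Fin (n + 1)) (hl : 3 ≤ l.val) :
    pderiv l (pY hn φ m) = if l = m then 1 else 0 := by
  rw [pY, map_sub, map_sum, Finset.sum_eq_zero, sub_zero]
  · split_ifs with h
    · rw [h, pderiv_X_self]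
    · rw [pderiv_X_of_ne (Ne.symm h)]
  · intro j _
    rw [pderiv_C_mul, pderiv_X_of_ne, mul_zero]
    intro h
    have := congrArg Fin.val h
    have h2 : (row3 hn j).val = j.val := rfl
    have := j.2
    omega

theorem dG_PF (hn : 2 ≤ n) (x : Tau n d → R) (l : Fin (n + 1)) (hl : 3 ≤ l.val) :
    dG (RingHom.id R) (PF hn x) (pf x) l = subF (RingHom.id R) (pB x l) (pf x) := by
  rw [dG, PF, map_add, pderiv_rename hn _ l hl, zero_add, map_sum, subF_sum]
  rw [Finset.sum_eq_single l]
  · rw [pderiv_mul, pderiv_pY hn _ l l hl, if_pos rfl, one_mul, subF_add, subF_mul _ (pY hn (pf x) l),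
      subF_pY hn (pf_row3 hn x), zero_mul, add_zero]
  · intro m _ hm
    rw [pderiv_mul, pderiv_pY hn _ l m hl, if_neg (Ne.symm hm), zero_mul, zero_add, subF_mul,
      subF_pY hn (pf_row3 hn x), zero_mul]
  · simp

end Defs

end K271.HEx
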