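import Groth.Agent.Fano.K271.HExPar

/-!
# The remainder modulo `qf c`: base change, homogeneity; homomorphisms from `RC G`
-/

set_option autoImplicit false

universe u

namespace K271.HEx

open MvPolynomial K745.ConDef K745.HDef Groth.Agent.Lefpen.H701

variable {A B : Type u} [CommRing A] [CommRing B]

theorem finSuccEquiv_qf (c : Fin 5 → A) : finSuccEquiv A 2 (qf c) = Polynomial.X ^ 2 +
    (Polynomial.C (C (c 0) * X 0 + C (c 1) * X 1) * Polynomial.X +
      Polynomial.C (C (c 2) * X 0 ^ 2 + C (c 3) * (X 0 * X 1) + C (c 4) * X 1 ^ 2)) := by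
  have h0 : finSuccEquiv A 2 (X 0) = Polynomial.X := finSuccEquiv_X_zero
  have h1 : finSuccEquiv A 2 (X 1) = Polynomial.C (X 0) := finSuccEquiv_X_succ (j := 0)
  have h2 : finSuccEquiv A 2 (X 2) = Polynomial.C (X 1) := finSuccEquiv_X_succ (j := 1)
  have hC : ∀ a : A, finSuccEquiv A 2 (C a) = Polynomial.C (C a) := fun a => by simp [finSuccEquiv_apply]
  simp only [qf, map_add, map_mul, map_pow, h0, h1, h2, hC]
  ring

theorem natDegree_rest_le (c : Fin 5 → A) :
    (Polynomial.C (C (c 0) * X 0 + C (c 1) * X 1) * Polynomial.X +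
      Polynomial.C (C (c 2) * X 0 ^ 2 + C (c 3) * (X 0 * X 1) + C (c 4) * X 1 ^ 2) :
        Polynomial (MvPolynomial (Fin 2) A)).degree < (2 : ℕ) :=
  Polynomial.degree_linear_lt

theorem monic_qf (c : Fin 5 → A) : (finSuccEquiv A 2 (qf c)).Monic := by
  rw [finSuccEquiv_qf]
  exact Polynomial.monic_X_pow_add (natDegree_rest_le c)

theorem degree_qf [Nontrivial A] (c : Fin 5 → A) : (finSuccEquiv A 2 (qf c)).degree = 2 := by
  rw [finSuccEquiv_qf, Polynomial.degree_add_eq_left_of_degree_lt, Polynomial.degree_X_pow]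
  · rfl
  · rw [Polynomial.degree_X_pow]
    exact natDegree_rest_le c

theorem finSuccEquiv_map (β : A →+* B) (F : MvPolynomial (Fin 3) A) :
    finSuccEquiv B 2 (F.map β) = (finSuccEquiv A 2 F).map (MvPolynomial.map β) := by
  ext i m
  rw [finSuccEquiv_coeff_coeff, coeff_map, Polynomial.coeff_map, coeff_map, finSuccEquiv_coeff_coeff]

theorem map_remCoeff (β : A →+* B) (c : Fin 5 → A) (F : MvPolynomial (Fin 3) A) (m : ℕ) (e : Fin 2 →₀ ℕ) :
    β (remCoeff c F m e) = remCoeff (fun i => β (c i)) (F.map β) m e := by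
  unfold remCoeff
  rw [← map_qf, finSuccEquiv_map, finSuccEquiv_map, ← Polynomial.map_modByMonic _ (monic_qf c), Polynomial.coeff_map,
    coeff_map]

theorem dvd_iff_remCoeff (c : Fin 5 → A) (F : MvPolynomial (Fin 3) A) :
    qf c ∣ F ↔ ∀ m e, remCoeff c F m e = 0 := by
  rw [← map_dvd_iff (finSuccEquiv A 2), ← Polynomial.modByMonic_eq_zero_iff_dvd (monic_qf c)]
  constructor
  · intro h m e
    rw [remCoeff, h]
    simp
  · intro h
    ext m e
    exact (h m e).trans (by simp)

theorem map_subF {S T R : Type u} [CommRing S] [CommRing T] [CommRing R] {n : ℕ} (β : S →+* T) (ρ : R →+* S)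
    (G : MvPolynomial (Fin (n + 1)) R) (φ : Fin (n + 1) → Fin 3 → S) :
    (subF ρ G φ).map β = subF (β.comp ρ) G (fun l i => β (φ l i)) := by
  have hl : ∀ v : Fin 3 → S, (lin3 v).map β = lin3 fun i => β (v i) := fun v => by simp [lin3]
  induction G using MvPolynomial.induction_on with
  | C a => simp [subF]
  | add p q hp hq =>
    rw [subF_add, subF_add, map_add, hp, hq]
  | mul_X p i hp =>
    rw [subF_mul, subF_mul, map_mul, hp]
    congr 1
    simp only [subF, eval₂_X]
    exact hl _

theorem subF_map {S R : Type u} [CommRing S] [CommRing R] {n : ℕ} (ρ : R →+* S)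
    (G : MvPolynomial (Fin (n + 1)) R) (φ : Fin (n + 1) → Fin 3 → S) :
    subF ρ G φ = subF (RingHom.id S) (G.map ρ) φ := by
  rw [subF, subF, eval₂_map, RingHom.comp_assoc, RingHom.id_comp]

/-- The homomorphism from `RC G` given by `(c, φ)`. -/
theorem exists_RC {R : Type u} [CommRing R] {n : ℕ} (ρ : R →+* B) (G : MvPolynomial (Fin (n + 1)) R)
    (c : Fin 5 → B) (φ : Fin (n + 1) → Fin 3 → B) (h : qf c ∣ subF ρ G φ) :
    ∃ α : RC G →+* B, ∀ a : AC n R, α (mkR G a) = eval₂ ρ (Sum.elim c fun p => φ p.1 p.2) a := by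
  let β : AC n R →+* B := eval₂Hom ρ (Sum.elim c fun p => φ p.1 p.2)
  have hβc : ∀ i, β (cU n R i) = c i := fun i => eval₂_X _ _ _
  have hβφ : ∀ l i, β (φU n R l i) = φ l i := fun l i => eval₂_X _ _ _
  have hβ : ∀ a ∈ conIdeal G, β a = 0 := by
    intro a ha
    have : conIdeal G ≤ RingHom.ker β := by
      rw [conIdeal, Ideal.span_le]
      rintro _ ⟨m, e, rfl⟩
      rw [SetLike.mem_coe, RingHom.mem_ker, map_remCoeff, map_subF]
      have h1 : β.comp C = ρ := by
        ext r
        exact eval₂_C _ _ _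
      simp only [hβc, hβφ, h1]
      exact (dvd_iff_remCoeff c _).1 h m e
    exact this ha
  exact ⟨Ideal.Quotient.lift (conIdeal G) β hβ, fun a => Ideal.Quotient.lift_mk _ _ _⟩

/-! ### Homogeneity -/

theorem coeff_cons_finSuccEquiv_symm (P : Polynomial (MvPolynomial (Fin 2) A)) (m : ℕ) (e : Fin 2 →₀ ℕ) :
    coeff (e.cons m) ((finSuccEquiv A 2).symm P) = coeff e (P.coeff m) := by
  rw [← finSuccEquiv_coeff_coeff, AlgEquiv.apply_symm_apply]

theorem remCoeff_eq_coeff (c : Fin 5 → A) (F : MvPolynomial (Fin 3) A) (m : ℕ) (e : Fin 2 →₀ ℕ) :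
    remCoeff c F m e = coeff (e.cons m)
      ((finSuccEquiv A 2).symm (finSuccEquiv A 2 F %ₘ finSuccEquiv A 2 (qf c))) := by
  rw [coeff_cons_finSuccEquiv_symm]
  rfl

/-- The remainder of a homogeneous form is homogeneous. -/
theorem isHomogeneous_rem [Nontrivial A] (c : Fin 5 → A) {F : MvPolynomial (Fin 3) A} {d : ℕ} (hF : F.IsHomogeneous d) :
    ((finSuccEquiv A 2).symm (finSuccEquiv A 2 F %ₘ finSuccEquiv A 2 (qf c))).IsHomogeneous d := by
  classical
  set E := finSuccEquiv A 2 with hE
  set r := E.symm (E F %ₘ E (qf c)) with hr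
  set Q := E.symm (E F /ₘ E (qf c)) with hQ
  have hFr : F = r + qf c * Q := by
    apply E.injective
    rw [map_add, map_mul, hr, hQ, AlgEquiv.apply_symm_apply, AlgEquiv.apply_symm_apply]
    exact (Polynomial.modByMonic_add_div _ _).symm
  have hdeg : (E F %ₘ E (qf c)).degree < (2 : ℕ) := by
    have := Polynomial.degree_modByMonic_lt (E F) (monic_qf c)
    rwa [degree_qf] at this
  -- the component of degree `d`
  let Q' : MvPolynomial (Fin 3) A := ∑ i ∈ Finset.range (Q.totalDegree + 1),
    if 2 + i = d then homogeneousComponent i Q else 0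
  have h1 : homogeneousComponent d (qf c * Q) = qf c * Q' := by
    conv_lhs => rw [← sum_homogeneousComponent Q, Finset.mul_sum, map_sum]
    rw [Finset.mul_sum]
    refine Finset.sum_congr rfl fun i _ => ?_
    have h2 : (qf c * homogeneousComponent i Q).IsHomogeneous (2 + i) :=
      (isHomogeneous_qf c).mul (homogeneousComponent_isHomogeneous i Q)
    rw [homogeneousComponent_of_mem ((mem_homogeneousSubmodule _ _).2 h2)]
    by_cases hi : 2 + i = d
    · rw [if_pos hi, if_pos hi.symm]
    · rw [if_neg hi, if_neg (Ne.symm hi), mul_zero]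
  have h3 : F = homogeneousComponent d r + qf c * Q' := by
    rw [← h1, ← map_add, ← hFr, homogeneousComponent_eq_self hF]
  have h4 : (E (homogeneousComponent d r)).degree < (2 : ℕ) := by
    rw [Polynomial.degree_lt_iff_coeff_zero]
    intro m hm
    ext e
    rw [hE, finSuccEquiv_coeff_coeff, coeff_homogeneousComponent, coeff_zero]
    split_ifs
    · rw [hr, coeff_cons_finSuccEquiv_symm, (Polynomial.degree_lt_iff_coeff_zero _ _).1 hdeg m hm, coeff_zero]
    · rfl
  have h5 := Polynomial.div_modByMonic_unique (f := E F) (g := E (qf c)) (E Q') (E (homogeneousComponent d r)) (monic_qf c)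
    ⟨by rw [← map_mul, ← map_add, ← h3], by rw [degree_qf]; exact h4⟩
  have h6 : r = homogeneousComponent d r := by
    apply E.injective
    rw [← h5.2]
    exact AlgEquiv.apply_symm_apply _ _
  rw [h6]
  exact homogeneousComponent_isHomogeneous d r

theorem remCoeff_eq_zero (c : Fin 5 → A) {F : MvPolynomial (Fin 3) A} {d : ℕ} (hF : F.IsHomogeneous d) (m : ℕ)
    (e : Fin 2 →₀ ℕ) (h : ¬ (m < 2 ∧ m + e.degree = d)) : remCoeff c F m e = 0 := by
  rcases subsingleton_or_nontrivial A with hA | hA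
  · exact Subsingleton.elim _ _
  by_cases hm : m < 2
  · rw [remCoeff_eq_coeff]
    refine (isHomogeneous_rem c hF).coeff_eq_zero fun h1 => h ⟨hm, ?_⟩
    rw [← h1, Finsupp.degree_eq_sum, Finsupp.degree_eq_sum, Fin.sum_univ_succ (fun i => (Finsupp.cons m e) i)]
    simp only [Finsupp.cons_zero, Finsupp.cons_succ]
  · have hdeg : (finSuccEquiv A 2 F %ₘ finSuccEquiv A 2 (qf c)).degree < (2 : ℕ) := by
      have := Polynomial.degree_modByMonic_lt (finSuccEquiv A 2 F) (monic_qf c)
      rwa [degree_qf] at this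
    rw [remCoeff, (Polynomial.degree_lt_iff_coeff_zero _ _).1 hdeg m (by omega), coeff_zero]

end K271.HEx
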