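import Groth.Agent.Fano.K271.HExPar

/-!
# The differential of the family `PF` at the special point is surjective
-/

set_option autoImplicit false

universe u

namespace K271.HEx

open MvPolynomial K745.ConDef K745.HDef Groth.Agent.Lefpen.H701 K714.LinSp K713.LineDom K713.LineExists

section Three

variable {R : Type u} [CommRing R]

/-- The form `X_1^{d-1-i} X_2^i` for `l = 3 + i`, `i < d`. -/
noncomputable def b0 (R : Type u) [CommRing R] (d l : ℕ) : MvPolynomial (Fin 3) R :=
  if 3 ≤ l ∧ l < 3 + d then X 1 ^ (d - 1 - (l - 3)) * X 2 ^ (l - 3) else 0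

/-- The conic `X_0² + X_1X_2`. -/
def c0 (R : Type u) [CommRing R] : Fin 5 → R := ![0, 0, 0, 1, 0]

theorem qf_c0 : qf (c0 R) = X 0 ^ 2 + X 1 * X 2 := by
  simp [qf, c0]

theorem isHomogeneous_b0 {d l : ℕ} : (b0 R d l).IsHomogeneous (d - 1) := by
  unfold b0
  split_ifs with h
  · have h1 := ((isHomogeneous_X R (1 : Fin 3)).pow (d - 1 - (l - 3))).mul ((isHomogeneous_X R (2 : Fin 3)).pow (l - 3))
    convert h1 using 1
    omega
  · exact isHomogeneous_zero _ _ _

theorem lin3_add (v w : Fin 3 → R) : lin3 (v + w) = lin3 v + lin3 w := by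
  simp only [lin3, Pi.add_apply, map_add, add_mul, Finset.sum_add_distrib]

theorem lin3_smul (r : R) (v : Fin 3 → R) : lin3 (r • v) = C r * lin3 v := by
  simp only [lin3, Pi.smul_apply, smul_eq_mul, map_mul, Finset.mul_sum, mul_assoc]

theorem lin3_zero : lin3 (0 : Fin 3 → R) = 0 := by simp [lin3]

theorem lin3_single (j : Fin 3) : lin3 (Pi.single j (1 : R)) = X j := by
  rw [lin3, Finset.sum_eq_single j]
  · simp
  · intro b _ hb
    rw [Pi.single_eq_of_ne hb, C_0, zero_mul]
  · simp

/-- The combinations of the `b0 l * X_j` and the multiples of the conic. -/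
def InR (n d : ℕ) (F : MvPolynomial (Fin 3) R) : Prop :=
  ∃ (v : Fin (n + 1) → Fin 3 → R) (h : EA d → R), (∀ l, l.val < 3 → v l = 0) ∧
    F = ∑ l, b0 R d l.val * lin3 (v l) + (∑ e : EA d, monomial e.1 (h e)) * qf (c0 R)

theorem InR.add {n d : ℕ} {F G : MvPolynomial (Fin 3) R} (hF : InR n d F) (hG : InR n d G) : InR n d (F + G) := by
  obtain ⟨v, h, hv, rfl⟩ := hF
  obtain ⟨w, g, hw, rfl⟩ := hG
  refine ⟨v + w, h + g, fun l hl => by rw [Pi.add_apply, hv l hl, hw l hl, add_zero], ?_⟩
  simp only [Pi.add_apply, lin3_add, mul_add, map_add, Finset.sum_add_distrib, add_mul]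
  ring

theorem InR.C_mul {n d : ℕ} {F : MvPolynomial (Fin 3) R} (hF : InR n d F) (r : R) : InR n d (C r * F) := by
  obtain ⟨v, h, hv, rfl⟩ := hF
  refine ⟨r • v, r • h, fun l hl => by rw [Pi.smul_apply, hv l hl, smul_zero], ?_⟩
  have h1 : (∑ e : EA d, monomial e.1 ((r • h) e)) = C r * ∑ e : EA d, monomial e.1 (h e) := by
    rw [Finset.mul_sum]
    refine Finset.sum_congr rfl fun e _ => ?_
    rw [Pi.smul_apply, smul_eq_mul, C_mul_monomial]
  have h2 : ∑ l : Fin (n + 1), b0 R d l.val * lin3 ((r • v) l) = C r * ∑ l, b0 R d l.val * lin3 (v l) := by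
    rw [Finset.mul_sum]
    refine Finset.sum_congr rfl fun l _ => ?_
    rw [Pi.smul_apply, lin3_smul]
    ring
  rw [h1, h2]
  ring

theorem InR.neg {n d : ℕ} {F : MvPolynomial (Fin 3) R} (hF : InR n d F) : InR n d (-F) := by
  have := hF.C_mul (-1)
  rwa [map_neg, C_1, neg_one_mul] at this

theorem InR.zero {n d : ℕ} : InR n d (0 : MvPolynomial (Fin 3) R) :=
  ⟨0, 0, fun _ _ => rfl, by simp [lin3_zero]⟩

theorem InR.sum {n d : ℕ} {ι : Type*} (s : Finset ι) {F : ι → MvPolynomial (Fin 3) R} (hF : ∀ i ∈ s, InR n d (F i)) :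
    InR n d (∑ i ∈ s, F i) :=
  Finset.sum_induction _ _ (fun _ _ => InR.add) InR.zero hF

theorem inR_b0 {n d : ℕ} (l : Fin (n + 1)) (hl : 3 ≤ l.val) (j : Fin 3) : InR n d (b0 R d l.val * X j) := by
  classical
  refine ⟨Pi.single l (Pi.single j 1), 0, fun m hm => ?_, ?_⟩
  · rw [Pi.single_eq_of_ne]
    rintro rfl
    omega
  · rw [Finset.sum_eq_single l]
    · rw [Pi.single_eq_same, lin3_single]
      simp
    · intro m _ hm
      rw [Pi.single_eq_of_ne hm, lin3_zero, mul_zero]
    · simp

theorem inR_mul_qf {n d : ℕ} (e : EA d) : InR n d (monomial e.1 1 * qf (c0 R)) := by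
  classical
  refine ⟨0, Pi.single e 1, fun _ _ => rfl, ?_⟩
  rw [Finset.sum_eq_zero, zero_add, Finset.sum_eq_single e, Pi.single_eq_same]
  · intro b _ hb
    rw [Pi.single_eq_of_ne hb, monomial_zero]
  · simp
  · intro l _
    rw [Pi.zero_apply, lin3_zero, mul_zero]

theorem monomial_eq3 (e : Fin 3 →₀ ℕ) : (monomial e (1 : R)) = X 0 ^ e 0 * X 1 ^ e 1 * X 2 ^ e 2 := by
  rw [monomial_eq, C_1, one_mul, Finsupp.prod_fintype _ _ (fun _ => pow_zero _), Fin.prod_univ_three]

theorem inR_mon {n d : ℕ} (hd : 1 ≤ d) (hdn : d + 3 ≤ n) (a : ℕ) : ∀ b c : ℕ, a + b + c = d →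
    InR n d (X 0 ^ a * X 1 ^ b * X 2 ^ c : MvPolynomial (Fin 3) R) := by
  classical
  induction a using Nat.strong_induction_on with
  | _ a ih =>
    intro b c habc
    obtain rfl | rfl | ⟨a', rfl⟩ : a = 0 ∨ a = 1 ∨ ∃ a', a = a' + 2 := by
      rcases a with _ | _ | a
      · exact Or.inl rfl
      · exact Or.inr (Or.inl rfl)
      · exact Or.inr (Or.inr ⟨a, rfl⟩)
    · by_cases hc : c = d
      · have hb : b = 0 := by omega
        have h1 := inR_b0 (R := R) (n := n) (d := d) ⟨3 + (d - 1), by omega⟩ (by simp) 2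
        have h2 : b0 R d (3 + (d - 1)) = X 1 ^ (d - 1 - (3 + (d - 1) - 3)) * X 2 ^ (3 + (d - 1) - 3) :=
          if_pos (by omega)
        have h3 : 3 + (d - 1) - 3 = d - 1 := by omega
        have h4 : d - 1 - (d - 1) = 0 := by omega
        convert h1 using 1
        rw [h2, h3, h4, hb, hc, pow_zero, pow_zero, one_mul, one_mul, one_mul, ← pow_succ]
        congr 1
        omega
      · have h1 := inR_b0 (R := R) (n := n) (d := d) ⟨3 + c, by omega⟩ (by simp) 1
        have h2 : b0 R d (3 + c) = X 1 ^ (d - 1 - (3 + c - 3)) * X 2 ^ (3 + c - 3) := if_pos (by omega)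
        have h3 : 3 + c - 3 = c := by omega
        have h4 : b = d - 1 - c + 1 := by omega
        convert h1 using 1
        rw [h2, h3, h4]
        ring
    · have h1 := inR_b0 (R := R) (n := n) (d := d) ⟨3 + c, by omega⟩ (by simp) 0
      have h2 : b0 R d (3 + c) = X 1 ^ (d - 1 - (3 + c - 3)) * X 2 ^ (3 + c - 3) := if_pos (by omega)
      have h3 : 3 + c - 3 = c := by omega
      have h4 : b = d - 1 - c := by omega
      convert h1 using 1
      rw [h2, h3, h4]
      ring
    · have h1 : (X 0 ^ (a' + 2) * X 1 ^ b * X 2 ^ c : MvPolynomial (Fin 3) R) =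
          X 0 ^ a' * X 1 ^ b * X 2 ^ c * qf (c0 R) + -(X 0 ^ a' * X 1 ^ (b + 1) * X 2 ^ (c + 1)) := by
        rw [qf_c0]
        ring
      rw [h1]
      refine InR.add ?_ (InR.neg (ih a' (by omega) (b + 1) (c + 1) (by omega)))
      let e : Fin 3 →₀ ℕ := Finsupp.equivFunOnFinite.symm ![a', b, c]
      have he : e.degree + 2 = d := by
        rw [Finsupp.degree_eq_sum, Fin.sum_univ_three]
        simp [e]
        omega
      have h2 := inR_mul_qf (R := R) (n := n) (d := d) ⟨e, he⟩
      rw [monomial_eq3] at h2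
      simpa [e] using h2

theorem inR_monomial {n d : ℕ} (hd : 1 ≤ d) (hdn : d + 3 ≤ n) (e : Fin 3 →₀ ℕ) (he : e.degree = d) :
    InR n d (monomial e (1 : R)) := by
  rw [monomial_eq3]
  refine inR_mon hd hdn _ _ _ ?_
  rw [← he, Finsupp.degree_eq_sum, Fin.sum_univ_three]

end Three

section Eval

variable {k : Type u} [Field k] {n d : ℕ}

theorem sum_monomial_coeff {R : Type u} [CommRing R] {σ : Type} (p : (σ →₀ ℕ) → Prop) [Fintype {e // p e}]
    (F : MvPolynomial σ R) (h : ∀ e, coeff e F ≠ 0 → p e) :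
    ∑ e : {e : σ →₀ ℕ // p e}, monomial e.1 (coeff e.1 F) = F := by
  classical
  ext m
  rw [coeff_sum]
  by_cases hm : p m
  · rw [Finset.sum_eq_single ⟨m, hm⟩]
    · rw [coeff_monomial, if_pos rfl]
    · intro b _ hb
      rw [coeff_monomial, if_neg fun h' => hb (Subtype.ext h')]
    · simp
  · rw [Finset.sum_eq_zero]
    · by_contra hne
      exact hm (h m (Ne.symm hne))
    · intro b _
      rw [coeff_monomial, if_neg]
      rintro rfl
      exact hm b.2

/-- The coefficients of the form with parameters `x`, as polynomials in `x`. -/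
noncomputable def Phi (k : Type u) [Field k] (hn : 2 ≤ n) (d : ℕ) (s : FI n d) : MvPolynomial (Tau n d) k :=
  coeff s.1 (PF hn (X : Tau n d → MvPolynomial (Tau n d) k))

theorem eval_Phi (hn : 2 ≤ n) (x : Tau n d → k) (s : FI n d) : eval x (Phi k hn d s) = coeff s.1 (PF hn x) := by
  have h := map_PF (eval x) hn (X : Tau n d → MvPolynomial (Tau n d) k)
  have h1 : (fun t => eval x (X t : MvPolynomial (Tau n d) k)) = x := by
    funext t
    exact eval_X _
  rw [h1] at h
  rw [h, coeff_map]
  rfl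

/-- The special point. -/
noncomputable def x0 (k : Type u) [Field k] (hn : 2 ≤ n) (d : ℕ) : Tau n d → k :=
  Sum.elim (Sum.elim (c0 k) (fun _ => 0))
    (Sum.elim (fun _ => 0) fun p => coeff p.2.1 (rename (row3 hn) (b0 k d p.1.val)))

theorem pc_x0 (hn : 2 ≤ n) : pc (x0 k hn d) = c0 k := rfl

theorem pA_x0 (hn : 2 ≤ n) : pA (x0 k hn d) = 0 := by
  rw [pA]
  exact Finset.sum_eq_zero fun e _ => monomial_zero

theorem pB_x0 (hn : 2 ≤ n) (hd : 1 ≤ d) (l : Fin (n + 1)) : pB (x0 k hn d) l = rename (row3 hn) (b0 k d l.val) := by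
  have h := sum_monomial_coeff (R := k) (fun e : Fin (n + 1) →₀ ℕ => e.degree + 1 = d)
    (rename (row3 hn) (b0 k d l.val)) fun e he => by
      have h1 : (rename (row3 hn) (b0 k d l.val)).IsHomogeneous (d - 1) := isHomogeneous_b0.rename_isHomogeneous
      have h2 : e.degree = d - 1 := by
        by_contra hne
        exact he (h1.coeff_eq_zero hne)
      omega
  exact h

theorem pf_x0 (hn : 2 ≤ n) (l : Fin (n + 1)) (j : Fin 3) :
    pf (x0 k hn d) l j = if l.val = j.val then 1 else 0 := by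
  unfold pf
  split_ifs with h1 h2 h3
  · rfl
  · rfl
  · have := j.2
    omega
  · rfl

/-- The derivative of `pf`. -/
def pg (v : Tau n d → k) (l : Fin (n + 1)) (j : Fin 3) : k :=
  if l.val < 3 then 0 else v (Sum.inl (Sum.inr (l, j)))

theorem pf_add (x v : Tau n d → k) (t : k) (l : Fin (n + 1)) (j : Fin 3) :
    pf (x + t • v) l j = pf x l j + t * pg v l j := by
  unfold pf pg
  by_cases h : l.val < 3
  · rw [if_pos h, if_pos h, if_pos h, mul_zero, add_zero]
  · rw [if_neg h, if_neg h, if_neg h]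
    rfl

theorem pA_add (x v : Tau n d → k) (t : k) : pA (x + t • v) = pA x + C t * pA v := by
  simp only [pA, Pi.add_apply, Pi.smul_apply, smul_eq_mul, map_add, Finset.sum_add_distrib, Finset.mul_sum,
    C_mul_monomial]

theorem pB_add (x v : Tau n d → k) (t : k) (l : Fin (n + 1)) : pB (x + t • v) l = pB x l + C t * pB v l := by
  simp only [pB, Pi.add_apply, Pi.smul_apply, smul_eq_mul, map_add, Finset.sum_add_distrib, Finset.mul_sum,
    C_mul_monomial]

theorem eval_qf (c : Fin 5 → k) (y : Fin 3 → k) : eval y (qf c) =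
    y 0 ^ 2 + c 0 * (y 0 * y 1) + c 1 * (y 0 * y 2) + c 2 * y 1 ^ 2 + c 3 * (y 1 * y 2) + c 4 * y 2 ^ 2 := by
  simp [qf]

theorem eval_qf_add (x v : Tau n d → k) (t : k) (y : Fin 3 → k) :
    eval y (qf (pc (x + t • v))) = eval y (qf (pc x)) + t * (eval y (qf (pc v)) - y 0 ^ 2) := by
  simp only [eval_qf, pc, Pi.add_apply, Pi.smul_apply, smul_eq_mul]
  ring

theorem eval_pY (hn : 2 ≤ n) (φ : Fin (n + 1) → Fin 3 → k) (l : Fin (n + 1)) (y : Fin (n + 1) → k) :
    eval y (pY hn φ l) = y l - ∑ j, φ l j * y (row3 hn j) := by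
  simp [pY]

theorem eval_PF (hn : 2 ≤ n) (x : Tau n d → k) (y : Fin (n + 1) → k) :
    eval y (PF hn x) = eval (y ∘ row3 hn) (qf (pc x)) * eval (y ∘ row3 hn) (pA x) +
      ∑ l, (y l - ∑ j, pf x l j * y (row3 hn j)) * eval y (pB x l) := by
  rw [PF, map_add, eval_rename, map_mul, map_sum]
  simp only [map_mul, eval_pY]

/-- The differential of the family. -/
theorem sum_pderiv_Phi [Infinite k] (hn : 2 ≤ n) (x v : Tau n d → k) (hx : pA x = 0) (y : Fin (n + 1) → k) :
    ∑ s : FI n d, (∑ t, v t * eval x (pderiv t (Phi k hn d s))) * ∏ i, y i ^ s.1 i =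
      eval (y ∘ row3 hn) (qf (pc x)) * eval (y ∘ row3 hn) (pA v) +
      ∑ l, ((y l - ∑ j, pf x l j * y (row3 hn j)) * eval y (pB v l) -
        (∑ j, pg v l j * y (row3 hn j)) * eval y (pB x l)) := by
  have key : ∑ s : FI n d, lineP x v (Phi k hn d s) * Polynomial.C (∏ i, y i ^ s.1 i) =
      (Polynomial.C (eval (y ∘ row3 hn) (qf (pc x))) + Polynomial.X *
        Polynomial.C (eval (y ∘ row3 hn) (qf (pc v)) - (y ∘ row3 hn) 0 ^ 2)) *
        (Polynomial.X * Polynomial.C (eval (y ∘ row3 hn) (pA v))) +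
      ∑ l, (Polynomial.C (y l - ∑ j, pf x l j * y (row3 hn j)) -
        Polynomial.X * Polynomial.C (∑ j, pg v l j * y (row3 hn j))) *
        (Polynomial.C (eval y (pB x l)) + Polynomial.X * Polynomial.C (eval y (pB v l))) := by
    refine Polynomial.funext fun t => ?_
    rw [Polynomial.eval_finsetSum]
    simp only [Polynomial.eval_mul, Polynomial.eval_add, Polynomial.eval_sub, Polynomial.eval_C, Polynomial.eval_X,
      eval_lineP, eval_Phi, Polynomial.eval_finsetSum]
    rw [← eval_form (isHomogeneous_PF hn (x + t • v)) y, eval_PF, eval_qf_add, pA_add, hx, zero_add, map_mul, eval_C]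
    congr 1
    refine Finset.sum_congr rfl fun l _ => ?_
    rw [pB_add, map_add, map_mul, eval_C]
    congr 1
    simp only [pf_add, add_mul, Finset.sum_add_distrib, Finset.mul_sum, mul_assoc]
    ring
  have h3 := congrArg (fun p => (Polynomial.derivative p).eval 0) key
  simp only [Polynomial.derivative_sum, Polynomial.derivative_mul, Polynomial.derivative_C, mul_zero, add_zero,
    Polynomial.eval_finsetSum, Polynomial.eval_mul, Polynomial.eval_C, Polynomial.derivative_add,
    Polynomial.derivative_sub, Polynomial.eval_sub, zero_sub, zero_add, sub_zero,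
    Polynomial.derivative_X, one_mul, Polynomial.eval_add, Polynomial.eval_X, zero_mul,
    eval_derivative_lineP] at h3
  rw [h3]
  congr 1
  refine Finset.sum_congr rfl fun l _ => ?_
  rw [Polynomial.eval_neg, Polynomial.eval_C]
  ring

/-- The differential at the special point is surjective. -/
theorem exists_tangent [Infinite k] (hn : 2 ≤ n) (hd : 1 ≤ d) (hdn : d + 3 ≤ n) (s₀ : FI n d) :
    ∃ v : Tau n d → k, ∀ s, ∑ t, v t * eval (x0 k hn d) (pderiv t (Phi k hn d s)) = if s = s₀ then 1 else 0 := by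
  classical
  have hY : ∀ (l : Fin (n + 1)) (y : Fin (n + 1) → k), 3 ≤ l.val → ∑ j, pf (x0 k hn d) l j * y (row3 hn j) = 0 := by
    intro l y hl
    refine Finset.sum_eq_zero fun j _ => ?_
    rw [pf_x0, if_neg, zero_mul]
    have := j.2
    omega
  by_cases hw : ∃ i : Fin (n + 1), 3 ≤ i.1 ∧ s₀.1 i ≠ 0
  · obtain ⟨l, hl, hsl⟩ := hw
    have hle : Finsupp.single l 1 ≤ s₀.1 := by
      rw [Finsupp.single_le_iff]
      omega
    have hadd : s₀.1 - Finsupp.single l 1 + Finsupp.single l 1 = s₀.1 := tsub_add_cancel_of_le hle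
    have hdeg : (s₀.1 - Finsupp.single l 1).degree + 1 = d := by
      have h1 := congrArg Finsupp.degree hadd
      rw [map_add, Finsupp.degree_single, s₀.2] at h1
      exact h1
    let e : EB n d := ⟨s₀.1 - Finsupp.single l 1, hdeg⟩
    let v : Tau n d → k := Pi.single (Sum.inr (Sum.inr (l, e))) 1
    refine ⟨v, fun s => coeff_eq_of_eval (fun s => ∑ t, v t * eval (x0 k hn d) (pderiv t (Phi k hn d s))) s₀
      (fun y => ?_) s⟩
    rw [sum_pderiv_Phi hn _ _ (pA_x0 hn)]
    have hA : pA v = 0 := by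
      rw [pA]
      refine Finset.sum_eq_zero fun e' _ => ?_
      have : v (Sum.inr (Sum.inl e')) = 0 := Pi.single_eq_of_ne (by simp) _
      rw [this, monomial_zero]
    have hg : ∀ m j, pg v m j = 0 := by
      intro m j
      unfold pg
      split_ifs
      · rfl
      · exact Pi.single_eq_of_ne (by simp) _
    have hB : ∀ m, m ≠ l → pB v m = 0 := by
      intro m hm
      rw [pB]
      refine Finset.sum_eq_zero fun e' _ => ?_
      have : v (Sum.inr (Sum.inr (m, e'))) = 0 := Pi.single_eq_of_ne (by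
        intro h
        simp only [Sum.inr.injEq, Prod.mk.injEq] at h
        exact hm h.1) _
      rw [this, monomial_zero]
    have hBl : pB v l = monomial e.1 1 := by
      rw [pB, Finset.sum_eq_single e]
      · congr 1
        exact Pi.single_eq_same _ _
      · intro e' _ he'
        have : v (Sum.inr (Sum.inr (l, e'))) = 0 := Pi.single_eq_of_ne (by
          intro h
          simp only [Sum.inr.injEq, Prod.mk.injEq] at h
          exact he' h.2) _
        rw [this, monomial_zero]
      · simp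
    rw [hA, map_zero, mul_zero, zero_add, Finset.sum_eq_single l]
    · rw [hBl, hY l y hl, sub_zero]
      simp only [hg, zero_mul, Finset.sum_const_zero, sub_zero]
      rw [eval_monomial, Finsupp.prod_fintype _ _ (fun _ => pow_zero _), one_mul]
      have h5 : ∀ i, y i ^ s₀.1 i = y i ^ (Finsupp.single l 1 : Fin (n + 1) →₀ ℕ) i * y i ^ e.1 i := by
        intro i
        rw [← pow_add]
        congr 1
        rw [← DFunLike.congr_fun hadd i, Finsupp.add_apply, add_comm]
      rw [Finset.prod_congr rfl fun i _ => h5 i, Finset.prod_mul_distrib]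
      congr 1
      rw [Finset.prod_eq_single l]
      · rw [Finsupp.single_eq_same, pow_one]
      · intro b _ hb
        rw [Finsupp.single_eq_of_ne hb, pow_zero]
      · simp
    · intro m _ hm
      rw [hB m hm, map_zero, mul_zero]
      simp only [hg, zero_mul, Finset.sum_const_zero, sub_zero]
    · simp
  · push Not at hw
    -- the exponents of `s₀`
    let e3 : Fin 3 →₀ ℕ := Finsupp.equivFunOnFinite.symm fun i => s₀.1 (row3 hn i)
    obtain ⟨m, rfl⟩ : ∃ m, n = m + 2 := ⟨n - 2, by omega⟩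
    have hprod : ∀ (M : Type u) [CommMonoid M] (f : Fin (m + 2 + 1) → M), (∀ i, 3 ≤ i.1 → f i = 1) →
        ∏ i, f i = ∏ i : Fin 3, f (row3 hn i) := by
      intro M _ f hf
      rw [Fin.prod_univ_succ, Fin.prod_univ_succ, Fin.prod_univ_succ, Finset.prod_eq_one, mul_one, Fin.prod_univ_three]
      · rw [← mul_assoc]
        rfl
      · intro i _
        exact hf _ (by simp)
    have hsum : ∑ i, s₀.1 i = ∑ i : Fin 3, s₀.1 (row3 hn i) := by
      rw [Fin.sum_univ_succ, Fin.sum_univ_succ, Fin.sum_univ_succ, Finset.sum_eq_zero, add_zero, Fin.sum_univ_three]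
      · rw [← add_assoc]
        rfl
      · intro i _
        exact hw _ (by simp)
    have hdeg : e3.degree = d := by
      have h1 := s₀.2
      rw [Finsupp.degree_eq_sum] at h1 ⊢
      rw [← h1, hsum]
      rfl
    have hmon : ∀ y : Fin (m + 2 + 1) → k, ∏ i, y i ^ s₀.1 i = eval (y ∘ row3 hn) (monomial e3 (1 : k)) := by
      intro y
      rw [eval_monomial, one_mul, Finsupp.prod_fintype _ _ (fun _ => pow_zero _), hprod]
      · rfl
      · intro i hi
        rw [hw i hi, pow_zero]
    obtain ⟨w, h, hw0, hE⟩ := inR_monomial (R := k) hd hdn e3 hdeg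
    let v : Tau (m + 2) d → k := Sum.elim (Sum.elim (fun _ => 0) fun p => - w p.1 p.2)
      (Sum.elim h fun _ => 0)
    refine ⟨v, fun s => coeff_eq_of_eval (fun s => ∑ t, v t * eval (x0 k hn d) (pderiv t (Phi k hn d s))) s₀
      (fun y => ?_) s⟩
    rw [sum_pderiv_Phi hn _ _ (pA_x0 hn), hmon, hE, map_add, map_mul, map_sum, pc_x0]
    have hB : ∀ m, pB v m = 0 := fun m => Finset.sum_eq_zero fun e' _ => monomial_zero
    have hA : pA v = ∑ e : EA d, monomial e.1 (h e) := rfl
    have hg : ∀ m j, pg v m j = - w m j := by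
      intro m j
      unfold pg
      split_ifs with hm
      · rw [hw0 m hm, Pi.zero_apply, neg_zero]
      · rfl
    rw [hA, mul_comm (eval (y ∘ row3 hn) (qf (c0 k))), add_comm]
    congr 1
    refine Finset.sum_congr rfl fun l _ => ?_
    rw [hB, map_zero, mul_zero, zero_sub, pB_x0 hn hd, eval_rename, map_mul, mul_comm]
    simp only [hg, neg_mul, Finset.sum_neg_distrib, mul_neg, neg_neg]
    congr 1
    rw [lin3, map_sum]
    refine Finset.sum_congr rfl fun j _ => ?_
    rw [map_mul, eval_C, eval_X]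
    rfl

theorem eq_zero_of_aeval_Phi [CharZero k] (hn : 2 ≤ n) (hd : 1 ≤ d) (hdn : d + 3 ≤ n) (P : MvPolynomial (FI n d) k)
    (hP : aeval (Phi k hn d) P = 0) : P = 0 := by
  classical
  have : Infinite k := Infinite.of_injective (algebraMap ℚ k) (algebraMap ℚ k).injective
  exact K713.JacCrit.eq_zero_of_surjective (Phi k hn d) (x0 k hn d) (exists_tangent hn hd hdn) P hP

end Eval

end K271.HEx
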