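import Groth.Agent.Fano.K271.HExRem
import Groth.Agent.Fano.K271.HExTan

/-!
# A general hypersurface contains an unobstructed conic
-/

set_option autoImplicit false

universe u

namespace K271.HEx

open MvPolynomial K745.ConDef K745.HDef Groth.Agent.Lefpen.H701 Groth.Agent.Lefpen.H702.PolyFun

section Unob

variable {R S : Type u} [CommRing R] [CommRing S] {n d : ℕ}

/-- A combination of the `B_l ∘ φ` with linear coefficients plus a multiple of the conic. -/
noncomputable def UF (x : Tau n d → R) (v : Fin (n + 1) → Fin 3 → R) (h : EA d → R) : MvPolynomial (Fin 3) R :=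
  ∑ l, subF (RingHom.id R) (pB x l) (pf x) * lin3 (v l) + (∑ e : EA d, monomial e.1 (h e)) * qf (pc x)

theorem map_lin3 (f : R →+* S) (v : Fin 3 → R) : (lin3 v).map f = lin3 fun i => f (v i) := by
  simp [lin3]

theorem map_UF (f : R →+* S) (x : Tau n d → R) (v : Fin (n + 1) → Fin 3 → R) (h : EA d → R) :
    (UF x v h).map f = UF (fun t => f (x t)) (fun l i => f (v l i)) (fun e => f (h e)) := by
  have h1 : ∀ l, (subF (RingHom.id R) (pB x l) (pf x)).map f =
      subF (RingHom.id S) (pB (fun t => f (x t)) l) (pf fun t => f (x t)) := by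
    intro l
    rw [map_subF, pB, pB]
    have h2 : (pf fun t => f (x t)) = fun l j => f (pf x l j) := by
      funext l j
      exact map_pf f x l j
    rw [h2, subF_map]
    congr 1
    rw [RingHom.comp_id, map_sum]
    simp only [map_monomial]
  rw [UF, UF, map_add, map_mul, map_qf, map_sum, map_sum]
  simp only [map_mul, h1, map_lin3, map_monomial]
  rfl

theorem isHomogeneous_subF (ρ : R →+* S) {F : MvPolynomial (Fin (n + 1)) R} {m : ℕ} (hF : F.IsHomogeneous m)
    (φ : Fin (n + 1) → Fin 3 → S) : (subF ρ F φ).IsHomogeneous m := by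
  have h := hF.eval₂ (C.comp ρ) (fun l => lin3 (φ l)) (n := 1) (fun r => isHomogeneous_C _ _)
    (fun l => isHomogeneous_lin3 _)
  rwa [one_mul] at h

theorem isHomogeneous_pB (x : Tau n d → R) (l : Fin (n + 1)) : (pB x l).IsHomogeneous (d - 1) := by
  refine IsHomogeneous.sum _ _ _ fun e _ => isHomogeneous_monomial _ ?_
  have := e.2
  omega

theorem isHomogeneous_UF (hd : 1 ≤ d) (x : Tau n d → R) (v : Fin (n + 1) → Fin 3 → R) (h : EA d → R) :
    (UF x v h).IsHomogeneous d := by
  refine IsHomogeneous.add ?_ ?_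
  · refine IsHomogeneous.sum _ _ _ fun l _ => ?_
    have h1 := (isHomogeneous_subF (RingHom.id R) (isHomogeneous_pB x l) (pf x)).mul (isHomogeneous_lin3 (v l))
    convert h1 using 1
    omega
  · rw [Finset.sum_mul]
    refine IsHomogeneous.sum _ _ _ fun e _ => ?_
    have h1 := (isHomogeneous_monomial (σ := Fin 3) (h e) (rfl : e.1.degree = e.1.degree)).mul (isHomogeneous_qf (pc x))
    have h2 := e.2
    convert h1 using 1
    omega

end Unob

section Gen

variable {k : Type u} [Field k] {n d : ℕ}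

/-- The constants of the special point. -/
theorem exists_const (hd : 1 ≤ d) (hdn : d + 3 ≤ n) : ∃ (v : FI 2 d → Fin (n + 1) → Fin 3 → k) (h : FI 2 d → EA d → k),
    (∀ e l, l.val < 3 → v e l = 0) ∧ ∀ e : FI 2 d, (monomial e.1 (1 : k) : MvPolynomial (Fin 3) k) =
      ∑ l, b0 k d l.val * lin3 (v e l) + (∑ a : EA d, monomial a.1 (h e a)) * qf (c0 k) := by
  choose v h h1 h2 using fun e : FI 2 d => inR_monomial (R := k) hd hdn e.1 e.2
  exact ⟨v, h, h1, h2⟩

theorem eq_of_coeff {F G : MvPolynomial (Fin 3) k} (hF : F.IsHomogeneous d) (hG : G.IsHomogeneous d)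
    (h : ∀ e : FI 2 d, coeff e.1 F = coeff e.1 G) : F = G := by
  ext m
  by_cases hm : m.degree = d
  · exact h ⟨m, hm⟩
  · rw [hF.coeff_eq_zero hm, hG.coeff_eq_zero hm]

/-- At the points of a dense open set of the parameter space, the pair `(c, φ)` is unobstructed. -/
theorem exists_uD (hn : 2 ≤ n) (hd : 1 ≤ d) (hdn : d + 3 ≤ n) : ∃ U : MvPolynomial (Tau n d) k, eval (x0 k hn d) U = 1 ∧
    ∀ x : Tau n d → k, eval x U ≠ 0 → Unob d (RingHom.id k) (PF hn x) (pc x) (pf x) := by
  classical
  obtain ⟨v, h, hv, hE⟩ := exists_const (k := k) hd hdn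
  let M : Matrix (FI 2 d) (FI 2 d) (MvPolynomial (Tau n d) k) := fun e' e =>
    coeff e'.1 (UF (X : Tau n d → MvPolynomial (Tau n d) k) (fun l i => C (v e l i)) fun a => C (h e a))
  have hM : ∀ x e' e, eval x (M e' e) = coeff e'.1 (UF x (v e) (h e)) := by
    intro x e' e
    have h1 := map_UF (eval x) (X : Tau n d → MvPolynomial (Tau n d) k) (fun l i => C (v e l i)) fun a => C (h e a)
    simp only [eval_X, eval_C] at h1
    rw [← h1, coeff_map]
  refine ⟨M.det, ?_, fun x hx => ?_⟩
  · have h1 : (eval (x0 k hn d)).mapMatrix M = 1 := by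
      ext e' e
      rw [RingHom.mapMatrix_apply, Matrix.map_apply, hM, Matrix.one_apply]
      have h2 : UF (x0 k hn d) (v e) (h e) = monomial e.1 1 := by
        rw [hE e, UF, pc_x0]
        congr 1
        refine Finset.sum_congr rfl fun l _ => ?_
        rw [pB_x0 hn hd, subF_rename hn (pf_row3 hn _)]
      rw [h2, coeff_monomial]
      simp only [Subtype.ext_iff, eq_comm]
    rw [RingHom.map_det, h1, Matrix.det_one]
  · intro F hF
    let Mx : Matrix (FI 2 d) (FI 2 d) k := (eval x).mapMatrix M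
    have hdet : IsUnit Mx.det := by
      rw [← RingHom.map_det]
      exact isUnit_iff_ne_zero.2 hx
    let w : FI 2 d → k := Mx⁻¹.mulVec fun e => coeff e.1 F
    have hw : Mx.mulVec w = fun e => coeff e.1 F := by
      rw [Matrix.mulVec_mulVec, Matrix.mul_nonsing_inv _ hdet, Matrix.one_mulVec]
    have hFw : F = ∑ e, C (w e) * UF x (v e) (h e) := by
      refine eq_of_coeff hF (IsHomogeneous.sum _ _ _ fun e _ => (isHomogeneous_UF hd x (v e) (h e)).C_mul _) fun e' => ?_
      rw [← congrFun hw e', coeff_sum, Matrix.mulVec, dotProduct]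
      refine Finset.sum_congr rfl fun e _ => ?_
      rw [coeff_C_mul, ← hM x e' e, mul_comm]
      rfl
    refine ⟨fun l => ∑ e, w e • v e l, ∑ e, C (w e) * ∑ a : EA d, monomial a.1 (h e a), ?_⟩
    have hl : ∀ (s : Finset (FI 2 d)) (l : Fin (n + 1)), lin3 (∑ e ∈ s, w e • v e l) = ∑ e ∈ s, C (w e) * lin3 (v e l) := by
      intro s l
      induction s using Finset.induction_on with
      | empty => simp [lin3_zero]
      | insert a s ha ih => rw [Finset.sum_insert ha, Finset.sum_insert ha, lin3_add, ih, lin3_smul]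
    rw [hFw]
    simp only [hl, UF, mul_add, Finset.sum_add_distrib, Finset.mul_sum, Finset.sum_mul, mul_assoc]
    congr 1
    rw [Finset.sum_comm]
    refine Finset.sum_congr rfl fun l _ => Finset.sum_congr rfl fun e _ => ?_
    by_cases hl3 : l.val < 3
    · rw [hv e l hl3, lin3_zero]
      simp
    · rw [dG_PF hn x l (by omega)]
      ring

theorem disc3_x0 [CharZero k] (hn : 2 ≤ n) : disc3 (pc (x0 k hn d)) 1 ≠ 0 := by
  rw [pc_x0]
  simp [disc3, c0]

theorem map_disc3 {A B : Type u} [CommRing A] [CommRing B] (f : A →+* B) (c : Fin 5 → A) (i : Fin 3) :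
    f (disc3 c i) = disc3 (fun i => f (c i)) i := by
  have h4 : f 4 = 4 := map_ofNat f 4
  have h2 : f 2 = 2 := map_ofNat f 2
  fin_cases i <;> simp [disc3, h4, h2]

/-- A general form belongs to the family, for parameters such that the pair `(c, φ)` is unobstructed. -/
theorem isGeneric_par [IsAlgClosed k] [CharZero k] (hn : 2 ≤ n) (hd : 1 ≤ d) (hdn : d + 3 ≤ n) :
    LefPen.IsGeneric k {G : LefPen.Form n k d | ∃ x : Tau n d → k, PF hn x = G.1 ∧ disc3 (pc x) 1 ≠ 0 ∧
      Unob d (RingHom.id k) G.1 (pc x) (pf x)} := by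
  classical
  have : Infinite k := IsAlgClosed.instInfinite
  obtain ⟨U, hU, hUn⟩ := exists_uD (k := k) hn hd hdn
  let U' : MvPolynomial (Tau n d) k := U * disc3 (pc X) 1
  have hd3 : ∀ x : Tau n d → k, eval x (disc3 (pc (X : Tau n d → MvPolynomial (Tau n d) k)) 1) = disc3 (pc x) 1 := by
    intro x
    rw [map_disc3]
    congr 1
    funext i
    exact eval_X _
  have hU' : U' ≠ 0 := by
    intro h0
    have h1 := congrArg (eval (x0 k hn d)) h0
    rw [map_mul, hU, one_mul, map_zero, hd3] at h1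
    exact disc3_x0 hn h1
  obtain ⟨s, hs0, hs⟩ := GenLift.exists_lift (k := k) (Phi k hn d) (eq_zero_of_aeval_Phi hn hd hdn) U' hU'
  refine isGeneric_of_mvPolynomial (formCoords n k d) hs0 fun G hG => ?_
  obtain ⟨x, hx, hx'⟩ := hs (formCoords n k d G) (by
    rw [← MvPolynomial.aeval_eq_eval]
    exact hG)
  have hPF : PF hn x = G.1 := by
    ext m
    by_cases hm : m.degree = d
    · rw [← eval_Phi hn x ⟨m, hm⟩, hx']
      rfl
    · rw [(isHomogeneous_PF hn x).coeff_eq_zero hm, ((mem_homogeneousSubmodule _ _).1 G.2).coeff_eq_zero hm]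
  rw [map_mul, hd3] at hx
  refine ⟨x, hPF, right_ne_zero_of_mul hx, ?_⟩
  rw [← hPF]
  exact hUn x (left_ne_zero_of_mul hx)

end Gen

end K271.HEx
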