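import Groth.Agent.Fano.K715.Geo
import Groth.Agent.Lefpen.H703.PtCoord
import Groth.Agent.Lefpen.H703.ClosedSmooth
import Groth.Agent.CalgB.RegQuot
import Groth.Agent.Divis.RegStalk
import Groth.Agent.PerfB.ProjSpaceCover
import Groth.Agent.Sga5.ProjSmooth
import Groth.Agent.Lefpen.H705.HypSmooth
import Groth.Agent.Lefpen.H720.HomPt
import Mathlib.RingTheory.MvPolynomial.EulerIdentity

/-!
# A Jacobian criterion for closed subschemes of `P^n` given by forms of different degrees

`smoothOfRelativeDimension`: `I` an ideal sheaf on `P^n_k` (`k` algebraically closed) generated by forms `G i` such that at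
each nonzero common zero `v` in `k^{n+1}` some `c` of the forms have linearly independent gradients and generate the
others up to a factor which is nonzero at `v`.  Then `V(I)` is smooth of relative dimension `n - c`.
-/

set_option autoImplicit false
universe u

open CategoryTheory AlgebraicGeometry Limits TopologicalSpace Opposite IsLocalRing

namespace K271.JacCrit

open LefPen MvPolynomial Groth.Agent Groth.Agent.Sga5
open Groth.Agent.Lefpen.H705.HypIdeal Groth.Agent.Lefpen.H705.ChartPoly Groth.Agent.Lefpen.H703.PtCoord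
open Groth.Agent.Lefpen.H702.AffAlg Groth.Agent.Lefpen.H702.LocAlg Groth.Agent.Lefpen.H705.ClosedPoint
open K715.Geo

variable {n : ℕ} {k : Type u} [Field k]

/-- The germ of the dehomogenization of a polynomial. -/
noncomputable def gm (j : Fin (n + 1)) (x : CohB1.ProjSpace n k) (hx : x ∈ chart n k j) :
    MvPolynomial (Fin (n + 1)) k →+* (CohB1.ProjSpace n k).presheaf.stalk x :=
  (chartGerm j x hx).comp (ProjChart.dehom n k j)

theorem gm_eq_germ (j : Fin (n + 1)) (x : CohB1.ProjSpace n k) (hx : x ∈ chart n k j)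
    (F : MvPolynomial (Fin (n + 1)) k) :
    gm j x hx F = (CohB1.ProjSpace n k).presheaf.germ (chart n k j) x hx (rho j le_rfl F) := by
  have h : rho j (le_refl (chart n k j)) F = polyToChart j (ProjChart.dehom n k j F) := by
    change (CohB1.ProjSpace n k).presheaf.map (𝟙 _) (polyToChart j (ProjChart.dehom n k j F)) = _
    rw [CategoryTheory.Functor.map_id]
    rfl
  rw [h]
  rfl

theorem eval_dehom (j : Fin (n + 1)) (a : Fin n → k) (F : MvPolynomial (Fin (n + 1)) k) :
    eval a (ProjChart.dehom n k j F) = eval (j.insertNth (α := fun _ => k) 1 a) F := by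
  have : (eval a).comp (ProjChart.dehom n k j) = eval (j.insertNth (α := fun _ => k) 1 a) := by
    apply MvPolynomial.ringHom_ext
    · intro r
      simp
    · intro l
      obtain rfl | ⟨m, rfl⟩ := Fin.eq_self_or_eq_succAbove j l
      · simp
      · simp
  exact congr($(this) F)

/-- Homogeneous coordinates of a closed point. -/
theorem exists_hcoords [IsAlgClosed k] (j : Fin (n + 1)) (x : CohB1.ProjSpace n k) (hx : x ∈ chart n k j)
    (hc : IsClosed ({x} : Set (CohB1.ProjSpace n k))) :
    ∃ v : Fin (n + 1) → k, v j = 1 ∧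
      (∀ F, gm j x hx F ∈ maximalIdeal ((CohB1.ProjSpace n k).presheaf.stalk x) ↔ eval v F = 0) ∧
      ∀ F, gm j x hx F ∈ maximalIdeal ((CohB1.ProjSpace n k).presheaf.stalk x) ^ 2 ↔
        eval v F = 0 ∧ ∀ l : Fin n, eval v (pderiv (j.succAbove l) F) = 0 := by
  obtain ⟨a, ha⟩ := exists_coords j x hx hc
  refine ⟨j.insertNth (α := fun _ => k) 1 a, by simp, fun F => ?_, fun F => ?_⟩
  · have h := ha 1 (ProjChart.dehom n k j F)
    rw [pow_one, pow_one, mem_ptIdeal_iff, eval_dehom] at h
    exact h
  · have h := ha 2 (ProjChart.dehom n k j F)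
    rw [mem_ptIdeal_sq_iff, eval_dehom] at h
    refine h.trans (and_congr Iff.rfl (forall_congr' fun l => ?_))
    rw [Groth.Agent.Lefpen.H705.HypSmooth.pderiv_dehom, eval_dehom]

/-- Elements of the local ring at a closed point are constants modulo the maximal ideal. -/
theorem exists_const [IsAlgClosed k] (j : Fin (n + 1)) (x : CohB1.ProjSpace n k) (hx : x ∈ chart n k j)
    (hc : IsClosed ({x} : Set (CohB1.ProjSpace n k))) (z : (CohB1.ProjSpace n k).presheaf.stalk x) :
    ∃ c : k, z - gm j x hx (C c) ∈ maximalIdeal ((CohB1.ProjSpace n k).presheaf.stalk x) := by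
  have hU := isAffineOpen_chart (r := n) (k := k) j
  let _ := (CohB1.ProjSpace n k).presheaf.algebra_section_stalk (⟨x, hx⟩ : LefPen.chart n k j)
  have hloc : IsLocalization.AtPrime ((CohB1.ProjSpace n k).presheaf.stalk x)
      (hU.primeIdealOf ⟨x, hx⟩).asIdeal := hU.isLocalization_stalk ⟨x, hx⟩
  have hM : (hU.primeIdealOf ⟨x, hx⟩).asIdeal.IsMaximal := hU.primeIdealOf_isMaximal_of_isClosed ⟨x, hx⟩ hc
  obtain ⟨a, ha⟩ := exists_point (polyToChart j) (polyToChart_bijective j).2 (hU.primeIdealOf ⟨x, hx⟩).asIdeal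
  obtain ⟨c, hc⟩ := Groth.Agent.Lefpen.H702.LocAlg.exists_const (polyToChart j) (polyToChart_bijective j).2
    (hU.primeIdealOf ⟨x, hx⟩).asIdeal a ha z
  refine ⟨c, ?_⟩
  have h : gm j x hx (C c) = algebraMap Γ(CohB1.ProjSpace n k, chart n k j)
      ((CohB1.ProjSpace n k).presheaf.stalk x) (polyToChart j (C c)) := by
    change chartGerm j x hx (ProjChart.dehom n k j (C c)) = _
    rw [ProjChart.dehom_C]
    rfl
  rw [h]
  exact hc

/-- Gradients of forms: independence in homogeneous coordinates gives independence in the chart. -/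
theorem eq_zero_of_sum {c : ℕ} {d : Fin c → ℕ} (G : Fin c → MvPolynomial (Fin (n + 1)) k)
    (hG : ∀ l, (G l).IsHomogeneous (d l)) (j : Fin (n + 1)) (v : Fin (n + 1) → k) (hv : v j = 1)
    (h0 : ∀ l, eval v (G l) = 0)
    (hind : LinearIndependent k fun l => fun t => eval v (pderiv t (G l))) (b : Fin c → k)
    (h : ∀ t : Fin n, eval v (pderiv (j.succAbove t) (∑ l, C (b l) * G l)) = 0) : b = 0 := by
  have hpd : ∀ t, eval v (pderiv t (∑ l, C (b l) * G l)) = ∑ l, b l * eval v (pderiv t (G l)) := by
    intro t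
    rw [map_sum, map_sum]
    refine Finset.sum_congr rfl fun l _ => ?_
    rw [Derivation.leibniz, pderiv_C, smul_zero, add_zero, smul_eq_mul, map_mul, eval_C]
  have hE : ∀ l, ∑ i, v i * eval v (pderiv i (G l)) = 0 := by
    intro l
    have h1 := congrArg (eval v) (hG l).sum_X_mul_pderiv
    rw [map_sum, map_nsmul, h0 l, nsmul_zero] at h1
    rw [← h1]
    exact Finset.sum_congr rfl fun i _ => by rw [map_mul, eval_X]
  have hj : ∑ l, b l * eval v (pderiv j (G l)) = 0 := by
    have h1 : ∑ i, v i * ∑ l, b l * eval v (pderiv i (G l)) = 0 := by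
      have h2 : ∑ i, v i * ∑ l, b l * eval v (pderiv i (G l)) =
          ∑ l, b l * ∑ i, v i * eval v (pderiv i (G l)) := by
        simp only [Finset.mul_sum]
        rw [Finset.sum_comm]
        exact Finset.sum_congr rfl fun l _ => Finset.sum_congr rfl fun i _ => by ring
      rw [h2]
      exact Finset.sum_eq_zero fun l _ => by rw [hE l, mul_zero]
    rw [Fin.sum_univ_succAbove _ j, hv, one_mul] at h1
    have h3 : ∑ t, v (j.succAbove t) * ∑ l, b l * eval v (pderiv (j.succAbove t) (G l)) = 0 :=
      Finset.sum_eq_zero fun t _ => by rw [← hpd, h t, mul_zero]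
    rwa [h3, add_zero] at h1
  have hall : ∀ t, ∑ l, b l * eval v (pderiv t (G l)) = 0 := by
    intro t
    obtain rfl | ⟨m, rfl⟩ := Fin.eq_self_or_eq_succAbove j t
    · exact hj
    · rw [← hpd]; exact h m
  funext l
  refine Fintype.linearIndependent_iff.1 hind b ?_ l
  funext t
  simpa using hall t

/-- Forms with independent gradients cut out a regular local ring. -/
theorem isRegular_quotient [IsAlgClosed k] (j : Fin (n + 1)) (x : CohB1.ProjSpace n k) (hx : x ∈ chart n k j)
    (hc : IsClosed ({x} : Set (CohB1.ProjSpace n k))) {c : ℕ} {d : Fin c → ℕ}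
    (G : Fin c → MvPolynomial (Fin (n + 1)) k)
    (hG : ∀ l, (G l).IsHomogeneous (d l)) (v : Fin (n + 1) → k) (hv : v j = 1)
    (h1 : ∀ F, gm j x hx F ∈ maximalIdeal ((CohB1.ProjSpace n k).presheaf.stalk x) ↔ eval v F = 0)
    (h2 : ∀ F, gm j x hx F ∈ maximalIdeal ((CohB1.ProjSpace n k).presheaf.stalk x) ^ 2 ↔
        eval v F = 0 ∧ ∀ l : Fin n, eval v (pderiv (j.succAbove l) F) = 0)
    (h0 : ∀ l, eval v (G l) = 0)
    (hind : LinearIndependent k fun l => fun t => eval v (pderiv t (G l))) :
    IsRegularLocalRing ((CohB1.ProjSpace n k).presheaf.stalk x ⧸ Ideal.span (Set.range fun l => gm j x hx (G l))) ∧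
      ringKrullDim ((CohB1.ProjSpace n k).presheaf.stalk x ⧸ Ideal.span (Set.range fun l => gm j x hx (G l))) +
        (c : ℕ) = (n : ℕ) := by
  have hsm : SmoothOfRelativeDimension n (CohB1.ProjSpace.toSpec n k) := ProjSmooth.smooth_toSpec n k
  have hsm' : Smooth (CohB1.ProjSpace.toSpec n k) := SmoothOfRelativeDimension.smooth n _
  have hreg : IsRegularLocalRing ((CohB1.ProjSpace n k).presheaf.stalk x) :=
    isRegularLocalRing_stalk (CohB1.ProjSpace.toSpec n k) x
  have hdim : ringKrullDim ((CohB1.ProjSpace n k).presheaf.stalk x) = n :=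
    ringKrullDim_stalk (CohB1.ProjSpace.toSpec n k) n x hc
  have hmem : ∀ l, gm j x hx (G l) ∈ maximalIdeal ((CohB1.ProjSpace n k).presheaf.stalk x) := fun l =>
    (h1 _).2 (h0 l)
  obtain ⟨h3, h4⟩ := Groth.Agent.CalgB.RegQuot.isRegularLocalRing_quotient
    (P := (CohB1.ProjSpace n k).presheaf.stalk x) (fun l => gm j x hx (G l)) hmem (by
      intro a ha
      rw [finsum_eq_sum_of_fintype] at ha
      choose b hb using fun l => exists_const j x hx hc (a l)
      have h5 : gm j x hx (∑ l, C (b l) * G l) ∈ maximalIdeal ((CohB1.ProjSpace n k).presheaf.stalk x) ^ 2 := by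
        have h6 : gm j x hx (∑ l, C (b l) * G l) =
            (∑ l, a l * gm j x hx (G l)) - ∑ l, (a l - gm j x hx (C (b l))) * gm j x hx (G l) := by
          rw [map_sum, ← Finset.sum_sub_distrib]
          refine Finset.sum_congr rfl fun l _ => ?_
          rw [map_mul]
          ring
        rw [h6]
        refine Ideal.sub_mem _ ha (Ideal.sum_mem _ fun l _ => ?_)
        rw [pow_two]
        exact Ideal.mul_mem_mul (hb l) (hmem l)
      have h7 := eq_zero_of_sum G hG j v hv h0 hind b ((h2 _).1 h5).2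
      intro l
      have h8 := hb l
      rw [h7, Pi.zero_apply, map_zero, map_zero, sub_zero] at h8
      exact h8)
  refine ⟨h3, ?_⟩
  rw [Nat.card_eq_fintype_card, Fintype.card_fin] at h4
  rw [h4, hdim]

/-- A common zero gives a point of the subscheme. -/
theorem nonempty_of_zero {ι : Type} (d : ι → ℕ)
    (G : ∀ i, Form n k (d i)) (I : (CohB1.ProjSpace n k).IdealSheafData)
    (hI : ∀ j, I.ideal ⟨chart n k j, isAffineOpen_chart j⟩ =
      Ideal.span (Set.range fun i => rho j (le_refl (chart n k j)) (G i).1))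
    (v : Fin (n + 1) → k) (hv : v ≠ 0) (h0 : ∀ i, eval v (G i).1 = 0) : Nonempty I.subscheme := by
  obtain ⟨j, hj⟩ : ∃ j, v j ≠ 0 := by
    by_contra hcon
    push Not at hcon
    exact hv (funext hcon)
  obtain ⟨x, hx, -, ha⟩ := exists_closed_point j (Groth.Agent.Lefpen.H720.HomPt.aff j v)
  have hmem : ∀ i, gm j x hx (G i).1 ∈ maximalIdeal ((CohB1.ProjSpace n k).presheaf.stalk x) := by
    intro i
    have h := ha 1 (ProjChart.dehom n k j (G i).1)
    rw [pow_one, pow_one, mem_ptIdeal_iff] at h
    refine h.2 ?_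
    exact (Groth.Agent.Lefpen.H720.HomPt.aeval_dehom_eq_zero_iff j v hj (G i)).2 (h0 i)
  have hsupp : x ∈ I.support := by
    rw [Scheme.IdealSheafData.mem_support_iff_of_mem (U := ⟨chart n k j, isAffineOpen_chart j⟩) hx,
      Scheme.mem_zeroLocus_iff]
    intro f hf hfx
    rw [Scheme.mem_basicOpen _ _ x hx] at hfx
    have h3 := Ideal.mem_map_of_mem ((CohB1.ProjSpace n k).presheaf.germ (chart n k j) x hx).hom hf
    rw [hI j, Ideal.map_span, ← Set.range_comp] at h3
    have h4 : Ideal.span (Set.range (((CohB1.ProjSpace n k).presheaf.germ (chart n k j) x hx).hom ∘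
        fun i => rho j (le_refl (chart n k j)) (G i).1)) ≤
        maximalIdeal ((CohB1.ProjSpace n k).presheaf.stalk x) := by
      rw [Ideal.span_le]
      rintro _ ⟨i, rfl⟩
      exact hmem i
    exact (mem_maximalIdeal _).mp (h4 h3) hfx
  obtain ⟨z, -⟩ : ∃ z, I.subschemeι z = x := by
    have : x ∈ Set.range I.subschemeι := by rw [I.range_subschemeι]; exact hsupp
    exact this
  exact ⟨z⟩

theorem smoothOfRelativeDimension [IsAlgClosed k] {ι : Type} (d : ι → ℕ)
    (G : ∀ i, Form n k (d i)) (I : (CohB1.ProjSpace n k).IdealSheafData)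
    (hI : ∀ j, I.ideal ⟨chart n k j, isAffineOpen_chart j⟩ =
      Ideal.span (Set.range fun i => rho j (le_refl (chart n k j)) (G i).1))
    {c m : ℕ} (hcm : m + c = n)
    (H : ∀ v : Fin (n + 1) → k, v ≠ 0 → (∀ i, eval v (G i).1 = 0) →
      ∃ e : Fin c → ι, LinearIndependent k (fun l => fun t => eval v (pderiv t (G (e l)).1)) ∧
        ∀ i, ∃ h : MvPolynomial (Fin (n + 1)) k, eval v h ≠ 0 ∧
          h * (G i).1 ∈ Ideal.span (Set.range fun l => (G (e l)).1)) :
    SmoothOfRelativeDimension m (I.subschemeι ≫ CohB1.ProjSpace.toSpec n k) := by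
  have hsm : SmoothOfRelativeDimension n (CohB1.ProjSpace.toSpec n k) := ProjSmooth.smooth_toSpec n k
  have hsm' : Smooth (CohB1.ProjSpace.toSpec n k) := SmoothOfRelativeDimension.smooth n _
  refine Groth.Agent.Lefpen.H703.ClosedSmooth.smoothOfRelativeDimension_of_closed _ m fun z hz => ?_
  have hx : IsClosed ({I.subschemeι z} : Set (CohB1.ProjSpace n k)) := by
    rw [← Set.image_singleton]
    exact I.subschemeι.isClosedEmbedding.isClosedMap _ hz
  obtain ⟨j, hj⟩ := Groth.Agent.PerfB.ProjSpaceCover.exists_mem_basicOpen_X n k (I.subschemeι z)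
  have hj' : I.subschemeι z ∈ chart n k j := hj
  have hker : RingHom.ker (I.subschemeι.stalkMap z).hom =
      Ideal.span (Set.range fun i => gm j (I.subschemeι z) hj' (G i).1) := by
    rw [Divis.RegStalk.ker_stalkMap I.subschemeι z ⟨chart n k j, isAffineOpen_chart j⟩ hj', I.ker_subschemeι, hI j,
      Ideal.map_span, ← Set.range_comp]
    congr 2
  have hsurj : Function.Surjective (I.subschemeι.stalkMap z).hom := I.subschemeι.stalkMap_surjective z
  obtain ⟨v, hv, h1, h2⟩ := exists_hcoords j (I.subschemeι z) hj' hx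
  have hv0 : v ≠ 0 := by
    rintro rfl
    exact zero_ne_one hv
  have hG0 : ∀ i, eval v (G i).1 = 0 := by
    intro i
    rw [← h1, mem_maximalIdeal, mem_nonunits_iff]
    intro hu
    have h3 : gm j (I.subschemeι z) hj' (G i).1 ∈ RingHom.ker (I.subschemeι.stalkMap z).hom := by
      rw [hker]
      exact Ideal.subset_span ⟨i, rfl⟩
    have h4 := hu.map (I.subschemeι.stalkMap z).hom
    rw [(RingHom.mem_ker).1 h3] at h4
    exact not_isUnit_zero h4
  obtain ⟨e, he, hgen⟩ := H v hv0 hG0
  have hspan : Ideal.span (Set.range fun i => gm j (I.subschemeι z) hj' (G i).1) =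
      Ideal.span (Set.range fun l => gm j (I.subschemeι z) hj' (G (e l)).1) := by
    apply le_antisymm
    · rw [Ideal.span_le]
      rintro _ ⟨i, rfl⟩
      obtain ⟨h, hh, hmem⟩ := hgen i
      have hu : IsUnit (gm j (I.subschemeι z) hj' h) := by
        have : gm j (I.subschemeι z) hj' h ∉ maximalIdeal _ := fun h' => hh ((h1 h).1 h')
        rw [mem_maximalIdeal, mem_nonunits_iff, not_not] at this
        exact this
      have h5 := Ideal.mem_map_of_mem (gm j (I.subschemeι z) hj') hmem
      rw [Ideal.map_span, ← Set.range_comp, map_mul] at h5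
      exact (Ideal.unit_mul_mem_iff_mem _ hu).1 h5
    · rw [Ideal.span_le]
      rintro _ ⟨l, rfl⟩
      exact Ideal.subset_span ⟨e l, rfl⟩
  obtain ⟨h6, h7⟩ := isRegular_quotient j (I.subschemeι z) hj' hx (d := fun l => d (e l))
    (fun l => (G (e l)).1) (fun l => (mem_homogeneousSubmodule _ _).mp (G (e l)).2) v hv h1 h2
    (fun l => hG0 (e l)) he
  let ε : ((CohB1.ProjSpace n k).presheaf.stalk (I.subschemeι z) ⧸
      Ideal.span (Set.range fun l => gm j (I.subschemeι z) hj' (G (e l)).1)) ≃+*
      I.subscheme.presheaf.stalk z :=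
    (Ideal.quotEquivOfEq (hker.trans hspan).symm).trans (RingHom.quotientKerEquivOfSurjective hsurj)
  refine ⟨IsRegularLocalRing.of_ringEquiv ε, ?_⟩
  rw [← ringKrullDim_eq_of_ringEquiv ε]
  have h8 : ((m : ℕ) : WithBot ℕ∞) + (c : ℕ) = (n : ℕ) := by exact_mod_cast hcm
  rw [← h8] at h7
  exact (ENat.WithBot.add_natCast_cancel).1 h7

end K271.JacCrit
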