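import Groth.Agent.Fano.K714.Bertini
import Groth.Agent.Fano.K714.Five
import Groth.Agent.Fano.K714.QuartDef
import Mathlib.LinearAlgebra.Dual.Lemmas

/-!
# Decompositions of a cubic form along a line, with a given first linear form
-/

set_option autoImplicit false

universe u

namespace K271.QuintDecomp

open Module MvPolynomial LefPen K656.Trilin K714.Surf Groth.Agent.Fano.K714.Quart

section Lin

variable {k : Type u} [Field k]

/-- A basis with a given first coordinate function. -/
theorem exists_basis_coord {W : Type*} [AddCommGroup W] [Module k W] [FiniteDimensional k W]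
    (hW : finrank k W = 3) (ξ : Dual k W) (hξ : ξ ≠ 0) : ∃ b : Basis (Fin 3) k W, ∀ w, b.repr w 0 = ξ w := by
  have hd : finrank k (Dual k W) = 3 := by rw [Subspace.dual_finrank_eq, hW]
  have h1 : LinearIndependent k (![ξ] : Fin 1 → Dual k W) :=
    LinearIndependent.of_subsingleton 0 (by simpa using hξ)
  obtain ⟨x, hx⟩ := exists_linearIndependent_snoc_of_lt_finrank h1 (by omega)
  obtain ⟨y, hy⟩ := exists_linearIndependent_snoc_of_lt_finrank hx (by omega)
  let B := basisOfLinearIndependentOfCardEqFinrank hy (by rw [hd]; simp)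
  have hB0 : B 0 = ξ := by
    have : B 0 = (Fin.snoc (α := fun _ => Dual k W) (Fin.snoc (α := fun _ => Dual k W) ![ξ] x) y : Fin 3 → Dual k W) 0 := by
      simp [B]
    rw [this]
    have h2 : (0 : Fin 3) = Fin.castSucc (0 : Fin 2) := rfl
    have h3 : (0 : Fin 2) = Fin.castSucc (0 : Fin 1) := rfl
    rw [h2, Fin.snoc_castSucc, h3, Fin.snoc_castSucc]
    rfl
  refine ⟨B.dualBasis.map (evalEquiv k W).symm, fun w => ?_⟩
  rw [Basis.map_repr, LinearEquiv.trans_apply, LinearEquiv.symm_symm, Basis.dualBasis_repr, hB0]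
  rfl

end Lin

section Quad

variable {k : Type u} [Field k]

theorem sum_single (x : Fin 5 → k) : x = ∑ i, x i • (Pi.single i (1 : k) : Fin 5 → k) := by
  funext j
  simp [Finset.sum_apply, Pi.single_apply]

/-- The quadratic form of a bilinear form. -/
theorem eval_quad_bilin (β : (Fin 5 → k) →ₗ[k] (Fin 5 → k) →ₗ[k] k) (x : Fin 5 → k) :
    eval x (quad fun i j => β (Pi.single i 1) (Pi.single j 1)).1 = β x x := by
  rw [eval_quad]
  conv_rhs => rw [sum_single x]
  simp only [map_sum, map_smul, LinearMap.sum_apply, LinearMap.smul_apply, smul_eq_mul, Finset.mul_sum]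
  rw [Finset.sum_comm]
  exact Finset.sum_congr rfl fun i _ => Finset.sum_congr rfl fun j _ => by ring

variable {T : (Fin 5 → k) →ₗ[k] (Fin 5 → k) →ₗ[k] (Fin 5 → k) →ₗ[k] k}

/-- The decomposition of a cubic form vanishing on the common kernel of three linear forms. -/
theorem decomp (hT : IsSym3 T) (v : Fin 3 → Fin 5 → k) (b : Fin 3 → Fin 5 → k)
    (hU : ∀ x : Fin 5 → k, T (x - ∑ j, (∑ i, v j i * x i) • b j) (x - ∑ j, (∑ i, v j i * x i) • b j)
      (x - ∑ j, (∑ i, v j i * x i) • b j) = 0) :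
    ∃ M : Fin 3 → Fin 5 → Fin 5 → k, ∀ x, T x x x = ∑ j, eval x (lin (v j)).1 * eval x (quad (M j)).1 := by
  let ξ : Fin 3 → Dual k (Fin 5 → k) := fun j => ∑ i, v j i • (LinearMap.proj i : (Fin 5 → k) →ₗ[k] k)
  have hξ : ∀ j x, ξ j x = ∑ i, v j i * x i := by
    intro j x
    simp [ξ]
  let N : (Fin 5 → k) →ₗ[k] (Fin 5 → k) := LinearMap.id - ∑ j, (ξ j).smulRight (b j)
  have hN : ∀ x, N x = x - ∑ j, (∑ i, v j i * x i) • b j := by
    intro x
    simp [N, hξ]
  let β : Fin 3 → (Fin 5 → k) →ₗ[k] (Fin 5 → k) →ₗ[k] k := fun j =>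
    T (b j) + (T (b j)).comp N + (((T (b j)).comp N).flip.comp N).flip
  have hβ : ∀ j x y, β j x y = T (b j) x y + T (b j) (N x) y + T (b j) (N x) (N y) := by
    intro j x y
    simp [β]
  refine ⟨fun j i l => β j (Pi.single i 1) (Pi.single l 1), fun x => ?_⟩
  have h1 : ∀ j, eval x (lin (v j)).1 * eval x (quad fun i l => β j (Pi.single i 1) (Pi.single l 1)).1 =
      ξ j x * (T (b j) x x + T (b j) (N x) x + T (b j) (N x) (N x)) := by
    intro j
    rw [eval_quad_bilin, eval_lin, hβ, hξ]
  rw [Finset.sum_congr rfl fun j _ => h1 j]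
  have hx : x = (∑ j, ξ j x • b j) + N x := by
    rw [hN]
    simp only [hξ]
    abel
  have hNN : T (N x) (N x) (N x) = 0 := by
    rw [hN]
    exact hU x
  have hTs : ∀ y z, T (∑ j, ξ j x • b j) y z = ∑ j, ξ j x * T (b j) y z := by
    intro y z
    simp [map_sum, LinearMap.sum_apply]
  generalize hs : (∑ j, ξ j x • b j) = s at hx hTs
  have e1 : T x x x = T s x x + T (N x) x x :=
    (congrArg (fun z => T z x x) hx).trans (by simp [map_add])
  have e2 : T (N x) x x = T (N x) s x + T (N x) (N x) x :=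
    (congrArg (fun z => T (N x) z x) hx).trans (by simp [map_add])
  have e3 : T (N x) (N x) x = T (N x) (N x) s + T (N x) (N x) (N x) :=
    (congrArg (fun z => T (N x) (N x) z) hx).trans (by simp [map_add])
  rw [e1, e2, e3, hNN, hT.s12 (N x) s x, hT.rot' (N x) (N x) s, hTs, hTs, hTs, add_zero, ← Finset.sum_add_distrib,
    ← Finset.sum_add_distrib]
  exact Finset.sum_congr rfl fun j _ => by ring

end Quad

section Main

open Groth.Agent.Fano.K714.Rat

variable {k : Type u} [Field k] [IsAlgClosed k] [CharZero k]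

/-- A decomposition of a smooth cubic threefold along a line, with smooth hyperplane section. -/
theorem exists_sol (f : LefPen.Form 4 k 3) (hsm : SmoothOn (tri f.1) ⊤) :
    ∃ p : Data k, p ∈ Sol f ∧ ∀ z : Fin 5 → k, z ≠ 0 → (∑ i, p.1 0 i * z i) = 0 → eval z f.1 = 0 →
      ¬ ∃ c : k, ∀ i, eval z (pderiv i f.1) = c * p.1 0 i := by
  have hf3 : f.1.IsHomogeneous 3 := (mem_homogeneousSubmodule _ _).mp f.2
  have hinf : Infinite k := IsAlgClosed.instInfinite
  have hV : finrank k (Fin 5 → k) = 5 := by simp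
  -- a line
  obtain ⟨U, hU, -⟩ := K714.Five.exists_line (tri f.1) (W := LinearMap.ker (LinearMap.proj 0 : (Fin 5 → k) →ₗ[k] k)) (by
    have h1 := LinearMap.finrank_range_add_finrank_ker (LinearMap.proj 0 : (Fin 5 → k) →ₗ[k] k)
    have h2 : LinearMap.range (LinearMap.proj 0 : (Fin 5 → k) →ₗ[k] k) = ⊤ :=
      LinearMap.range_eq_top.2 (LinearMap.proj_surjective 0)
    rw [h2, finrank_top, finrank_self, hV] at h1
    exact Nat.add_left_cancel (n := 1) (h1.trans (by norm_num)))
  -- a smooth hyperplane section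
  obtain ⟨ξ, hξ, hUξ, hsmξ⟩ := K714.Bertini.exists_smooth_section (tri_sym f.1) hV hsm hU.1
  -- coordinates of the quotient
  let ξ' : Dual k ((Fin 5 → k) ⧸ U) := U.liftQ ξ hUξ
  have hξ' : ξ' ≠ 0 := by
    intro h
    apply hξ
    ext x
    have := LinearMap.congr_fun h (U.mkQ (LinearMap.single k (fun _ => k) x 1))
    simpa [ξ'] using this
  obtain ⟨b, hb⟩ := exists_basis_coord (by
    have := U.finrank_quotient_add_finrank
    rw [hU.1, hV] at this
    exact Nat.add_right_cancel (m := 2) (this.trans (by norm_num))) ξ' hξ'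
  choose b' hb' using fun j => U.mkQ_surjective (b j)
  let v : Fin 3 → Fin 5 → k := fun j i => b.repr (U.mkQ (Pi.single i 1)) j
  have hv : ∀ j x, ∑ i, v j i * x i = b.repr (U.mkQ x) j := by
    intro j x
    conv_rhs => rw [sum_single x]
    simp only [map_sum, map_smul, Finsupp.coe_finsetSum, Finset.sum_apply, Finsupp.coe_smul, Pi.smul_apply,
      smul_eq_mul]
    exact Finset.sum_congr rfl fun i _ => mul_comm _ _
  have hv0 : ∀ x, ∑ i, v 0 i * x i = ξ x := by
    intro x
    rw [hv, hb]
    rfl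
  obtain ⟨M, hM⟩ := decomp (tri_sym f.1) v b' (by
    intro x
    apply hU.2
    have h1 : U.mkQ (x - ∑ j, (∑ i, v j i * x i) • b' j) = 0 := by
      rw [map_sub, map_sum, sub_eq_zero]
      simp only [map_smul, hb', hv]
      exact (b.sum_repr _).symm
    rwa [Submodule.mkQ_apply, Submodule.Quotient.mk_eq_zero] at h1)
  refine ⟨(v, M), ⟨?_, ?_⟩, ?_⟩
  · rw [Fintype.linearIndependent_iff]
    intro g hg l
    have h1 : ∀ x : Fin 5 → k, ∑ j, g j * b.repr (U.mkQ x) j = 0 := by
      intro x
      have h2 : ∑ j, g j * b.repr (U.mkQ x) j = ∑ i, (∑ j, g j • v j) i * x i := by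
        simp only [← hv, Finset.mul_sum, Finset.sum_apply, Pi.smul_apply, smul_eq_mul, Finset.sum_mul]
        rw [Finset.sum_comm]
        exact Finset.sum_congr rfl fun i _ => Finset.sum_congr rfl fun j _ => by ring
      rw [h2, hg]
      simp
    have h3 := h1 (b' l)
    rw [hb', b.repr_self] at h3
    simpa [Finsupp.single_apply] using h3
  · apply MvPolynomial.funext
    intro x
    rw [← tri_diag hf3, hM]
    simp [map_sum]
  · rintro z hz h0 hfz ⟨c, hc⟩
    rw [← tri_diag hf3] at hfz
    obtain ⟨w, hw, hzw⟩ := hsmξ z (by rw [LinearMap.mem_ker, ← hv0]; exact h0) hz hfz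
    apply hzw
    have h1 := tri_pderiv hf3 z w
    have h2 : ∑ l, w l * eval z (pderiv l f.1) = c * ξ w := by
      rw [← hv0, Finset.mul_sum]
      refine Finset.sum_congr rfl fun l _ => ?_
      rw [hc]
      change w l * (c * v 0 l) = _
      ring
    rw [h2, LinearMap.mem_ker.1 hw, mul_zero] at h1
    exact (mul_eq_zero.1 h1).resolve_left (by norm_num)

end Main

end K271.QuintDecomp
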