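import Groth.Agent.Lefpen.H702.Engine
import Groth.Agent.Lefpen.H703.ZOpen
import Mathlib.RingTheory.Nullstellensatz
import Mathlib.LinearAlgebra.LinearIndependent.Basic

/-!
# The general residual curve: genericity by derivations

`ℓ₀, ℓ₁, ℓ₂` linear forms, `q₁, q₂` polynomials, `F = ℓ₁ q₁ + ℓ₂ q₂`; for general linear forms `a, b` the gradients of
`ℓ₀, ℓ₁ a + ℓ₂ b, F` (off `ℓ₁ = ℓ₂ = 0`), resp. of `ℓ₀, F, a q₂ - b q₁` (on `ℓ₀ = ℓ₁ = ℓ₂ = 0`) are linearly independent at
the common zeros, when the hyperplane section `ℓ₀ = F = 0` is smooth.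
-/

set_option autoImplicit false

universe u

namespace K271.QuintGen

open MvPolynomial Groth.Agent.Lefpen.H702 Groth.Agent.Lefpen.H703.ZOpen

section Null

variable {k : Type u} [Field k] [IsAlgClosed k]

/-- A system with only the zero solution over an algebraically closed field has only the zero solution over every
extension field. -/
theorem eq_zero_of_system {σ : Type} [Finite σ] (S : Set (MvPolynomial σ k))
    (h : ∀ x : σ → k, (∀ P ∈ S, eval x P = 0) → x = 0) {K : Type*} [Field K] [Algebra k K] (x : σ → K)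
    (hx : ∀ P ∈ S, aeval x P = 0) : x = 0 := by
  funext i
  have h1 : (X i : MvPolynomial σ k) ∈ (Ideal.span S).radical := by
    rw [← vanishingIdeal_zeroLocus_eq_radical (K := k), mem_vanishingIdeal_iff]
    intro y hy
    have hy0 : y = 0 := by
      refine h y fun P hP => ?_
      have := hy P (Ideal.subset_span hP)
      simpa using this
    rw [hy0]
    simp
  obtain ⟨N, hN⟩ := h1
  have h2 : Ideal.span S ≤ RingHom.ker (aeval (R := k) x) := by
    rw [Ideal.span_le]
    intro P hP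
    exact hx P hP
  have h3 := h2 hN
  rw [RingHom.mem_ker, map_pow, aeval_X] at h3
  exact IsReduced.eq_zero _ ⟨N, h3⟩

end Null

section Field

variable {k K : Type*} [Field k] [Field K] [Algebra k K] [CharZero k]
variable (v : Fin 3 → Fin 5 → k) (ℓ : Fin 3 → MvPolynomial (Fin 5) k) (q : Fin 2 → MvPolynomial (Fin 5) k)
  (F : MvPolynomial (Fin 5) k)

/-- No generic bad point off the line. -/
theorem no_generic_off (hℓ : ∀ j, ∀ x : Fin 5 → K, aeval x (ℓ j) = ∑ i, algebraMap k K (v j i) * x i)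
    (hv : v 0 ≠ 0)
    (hS : ∀ x : Fin 5 → K, aeval x (ℓ 0) = 0 → aeval x F = 0 →
      (∃ t : K, ∀ i, aeval x (pderiv i F) = t * algebraMap k K (v 0 i)) → x = 0)
    (y : Fin 2 × Fin 5 → K) (x : Fin 5 → K) (c : Fin 3 → K)
    (e1 : aeval x (ℓ 0) = 0)
    (e2 : aeval x (ℓ 1) * ∑ i, y (0, i) * x i + aeval x (ℓ 2) * ∑ i, y (1, i) * x i = 0)
    (e3 : aeval x F = 0)
    (e4 : ∀ i, c 0 * algebraMap k K (v 0 i) + c 1 * (algebraMap k K (v 1 i) * (∑ i, y (0, i) * x i) +
      aeval x (ℓ 1) * y (0, i) + algebraMap k K (v 2 i) * (∑ i, y (1, i) * x i) + aeval x (ℓ 2) * y (1, i)) +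
      c 2 * aeval x (pderiv i F) = 0)
    (e5 : c ≠ 0) (e6 : aeval x (ℓ 1) ≠ 0 ∨ aeval x (ℓ 2) ≠ 0) : ¬ AlgebraicIndependent k y := by
  intro hy
  have hx : x ≠ 0 := by
    rintro rfl
    rcases e6 with h | h
    · exact h (by rw [hℓ]; simp)
    · exact h (by rw [hℓ]; simp)
  have key : ∀ u : Fin 2 × Fin 5 → K, c 1 * (aeval x (ℓ 1) * (∑ i, u (0, i) * x i) +
      aeval x (ℓ 2) * ∑ i, u (1, i) * x i) = 0 := by
    intro u
    obtain ⟨D, hD⟩ := Generic.exists_derivation y hy u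
    have hDl : ∀ j, D (aeval x (ℓ j)) = ∑ i, algebraMap k K (v j i) * D (x i) := by
      intro j
      rw [hℓ, map_sum]
      refine Finset.sum_congr rfl fun i _ => ?_
      rw [Derivation.leibniz, Derivation.map_algebraMap, smul_zero, add_zero, smul_eq_mul]
    have hDy : ∀ s, D (∑ i, y (s, i) * x i) = ∑ i, u (s, i) * x i + ∑ i, y (s, i) * D (x i) := by
      intro s
      rw [map_sum, ← Finset.sum_add_distrib]
      refine Finset.sum_congr rfl fun i _ => ?_
      rw [Derivation.leibniz, hD, smul_eq_mul, smul_eq_mul]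
      ring
    have d1 := congrArg D e1
    rw [hDl, map_zero] at d1
    have d3 := congrArg D e3
    rw [Generic.derivation_aeval, map_zero] at d3
    have d2 := congrArg D e2
    rw [map_zero, map_add, Derivation.leibniz, Derivation.leibniz, hDl, hDl, hDy, hDy] at d2
    simp only [smul_eq_mul] at d2
    have d4 : ∑ i, (c 0 * algebraMap k K (v 0 i) + c 1 * (algebraMap k K (v 1 i) * (∑ i, y (0, i) * x i) +
      aeval x (ℓ 1) * y (0, i) + algebraMap k K (v 2 i) * (∑ i, y (1, i) * x i) + aeval x (ℓ 2) * y (1, i)) +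
      c 2 * aeval x (pderiv i F)) * D (x i) = 0 :=
      Finset.sum_eq_zero fun i _ => by rw [e4 i, zero_mul]
    have d5 : ∑ i, (c 0 * algebraMap k K (v 0 i) + c 1 * (algebraMap k K (v 1 i) * (∑ i, y (0, i) * x i) +
      aeval x (ℓ 1) * y (0, i) + algebraMap k K (v 2 i) * (∑ i, y (1, i) * x i) + aeval x (ℓ 2) * y (1, i)) +
      c 2 * aeval x (pderiv i F)) * D (x i) =
      c 0 * (∑ i, algebraMap k K (v 0 i) * D (x i)) + c 1 * ((∑ i, algebraMap k K (v 1 i) * D (x i)) *
        (∑ i, y (0, i) * x i) + aeval x (ℓ 1) * (∑ i, y (0, i) * D (x i)) +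
        (∑ i, algebraMap k K (v 2 i) * D (x i)) * (∑ i, y (1, i) * x i) +
        aeval x (ℓ 2) * (∑ i, y (1, i) * D (x i))) + c 2 * ∑ i, aeval x (pderiv i F) * D (x i) := by
      generalize (∑ i, y (0, i) * x i) = Y0
      generalize (∑ i, y (1, i) * x i) = Y1
      simp only [Finset.mul_sum, Finset.sum_mul, ← Finset.sum_add_distrib]
      exact Finset.sum_congr rfl fun i _ => by ring
    rw [d5, d1, d3] at d4
    linear_combination c 1 * d2 - d4
  have hc1 : c 1 = 0 := by
    obtain ⟨i, hi⟩ : ∃ i, x i ≠ 0 := by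
      by_contra hcon
      push Not at hcon
      exact hx (funext hcon)
    rcases e6 with h | h
    · have h1 := key (Pi.single (0, i) 1)
      have h2 : ∑ l, (Pi.single (0, i) 1 : Fin 2 × Fin 5 → K) (0, l) * x l = x i := by
        rw [Finset.sum_eq_single i]
        · simp
        · intro l _ hl; simp [hl]
        · simp
      have h3 : ∑ l, (Pi.single (0, i) 1 : Fin 2 × Fin 5 → K) (1, l) * x l = 0 :=
        Finset.sum_eq_zero fun l _ => by simp
      rw [h2, h3, mul_zero, add_zero] at h1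
      exact (mul_eq_zero.1 h1).resolve_right (mul_ne_zero h hi)
    · have h1 := key (Pi.single (1, i) 1)
      have h2 : ∑ l, (Pi.single (1, i) 1 : Fin 2 × Fin 5 → K) (1, l) * x l = x i := by
        rw [Finset.sum_eq_single i]
        · simp
        · intro l _ hl; simp [hl]
        · simp
      have h3 : ∑ l, (Pi.single (1, i) 1 : Fin 2 × Fin 5 → K) (0, l) * x l = 0 :=
        Finset.sum_eq_zero fun l _ => by simp
      rw [h2, h3, mul_zero, zero_add] at h1
      exact (mul_eq_zero.1 h1).resolve_right (mul_ne_zero h hi)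
  have hc2 : c 2 ≠ 0 := by
    intro hc2
    obtain ⟨i, hi⟩ : ∃ i, v 0 i ≠ 0 := by
      by_contra hcon
      push Not at hcon
      exact hv (funext hcon)
    have h1 := e4 i
    rw [hc1, hc2, zero_mul, zero_mul, add_zero, add_zero] at h1
    have hc0 : c 0 = 0 := (mul_eq_zero.1 h1).resolve_right (fun h0 => hi ((map_eq_zero _).1 h0))
    apply e5
    funext l
    fin_cases l
    exacts [hc0, hc1, hc2]
  refine hx (hS x e1 e3 ⟨-(c 0 / c 2), fun i => ?_⟩)
  have h1 := e4 i
  rw [hc1, zero_mul, add_zero] at h1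
  field_simp
  linear_combination h1

/-- No generic bad point on the line. -/
theorem no_generic_on (hℓ : ∀ j, ∀ x : Fin 5 → K, aeval x (ℓ j) = ∑ i, algebraMap k K (v j i) * x i)
    (hF : F = ℓ 1 * q 0 + ℓ 2 * q 1) (hv : v 0 ≠ 0)
    (hS : ∀ x : Fin 5 → K, aeval x (ℓ 0) = 0 → aeval x F = 0 →
      (∃ t : K, ∀ i, aeval x (pderiv i F) = t * algebraMap k K (v 0 i)) → x = 0)
    (y : Fin 2 × Fin 5 → K) (x : Fin 5 → K) (c : Fin 3 → K)
    (e1 : ∀ j, aeval x (ℓ j) = 0)
    (e2 : (∑ i, y (0, i) * x i) * aeval x (q 1) - (∑ i, y (1, i) * x i) * aeval x (q 0) = 0)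
    (e4 : ∀ i, c 0 * algebraMap k K (v 0 i) + c 1 * aeval x (pderiv i F) + c 2 *
      (y (0, i) * aeval x (q 1) + (∑ i, y (0, i) * x i) * aeval x (pderiv i (q 1)) -
        (y (1, i) * aeval x (q 0) + (∑ i, y (1, i) * x i) * aeval x (pderiv i (q 0)))) = 0)
    (e5 : c ≠ 0) (hx : x ≠ 0) : ¬ AlgebraicIndependent k y := by
  intro hy
  have e3 : aeval x F = 0 := by rw [hF, map_add, map_mul, map_mul, e1, e1, zero_mul, zero_mul, add_zero]
  have key : ∀ u : Fin 2 × Fin 5 → K, c 2 * ((∑ i, u (0, i) * x i) * aeval x (q 1) -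
      (∑ i, u (1, i) * x i) * aeval x (q 0)) = 0 := by
    intro u
    obtain ⟨D, hD⟩ := Generic.exists_derivation y hy u
    have hDl : ∀ j, D (aeval x (ℓ j)) = ∑ i, algebraMap k K (v j i) * D (x i) := by
      intro j
      rw [hℓ, map_sum]
      refine Finset.sum_congr rfl fun i _ => ?_
      rw [Derivation.leibniz, Derivation.map_algebraMap, smul_zero, add_zero, smul_eq_mul]
    have hDy : ∀ s, D (∑ i, y (s, i) * x i) = ∑ i, u (s, i) * x i + ∑ i, y (s, i) * D (x i) := by
      intro s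
      rw [map_sum, ← Finset.sum_add_distrib]
      refine Finset.sum_congr rfl fun i _ => ?_
      rw [Derivation.leibniz, hD, smul_eq_mul, smul_eq_mul]
      ring
    have d1 := congrArg D (e1 0)
    rw [hDl, map_zero] at d1
    have d3 := congrArg D e3
    rw [Generic.derivation_aeval, map_zero] at d3
    have d2 := congrArg D e2
    rw [map_zero, map_sub, Derivation.leibniz, Derivation.leibniz, hDy, hDy, Generic.derivation_aeval,
      Generic.derivation_aeval] at d2
    simp only [smul_eq_mul] at d2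
    have d4 : ∑ i, (c 0 * algebraMap k K (v 0 i) + c 1 * aeval x (pderiv i F) + c 2 *
      (y (0, i) * aeval x (q 1) + (∑ i, y (0, i) * x i) * aeval x (pderiv i (q 1)) -
        (y (1, i) * aeval x (q 0) + (∑ i, y (1, i) * x i) * aeval x (pderiv i (q 0))))) * D (x i) = 0 :=
      Finset.sum_eq_zero fun i _ => by rw [e4 i, zero_mul]
    have d5 : ∑ i, (c 0 * algebraMap k K (v 0 i) + c 1 * aeval x (pderiv i F) + c 2 *
      (y (0, i) * aeval x (q 1) + (∑ i, y (0, i) * x i) * aeval x (pderiv i (q 1)) -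
        (y (1, i) * aeval x (q 0) + (∑ i, y (1, i) * x i) * aeval x (pderiv i (q 0))))) * D (x i) =
      c 0 * (∑ i, algebraMap k K (v 0 i) * D (x i)) + c 1 * (∑ i, aeval x (pderiv i F) * D (x i)) +
        c 2 * ((∑ i, y (0, i) * D (x i)) * aeval x (q 1) +
          (∑ i, y (0, i) * x i) * (∑ i, aeval x (pderiv i (q 1)) * D (x i)) -
          ((∑ i, y (1, i) * D (x i)) * aeval x (q 0) +
          (∑ i, y (1, i) * x i) * (∑ i, aeval x (pderiv i (q 0)) * D (x i)))) := by
      generalize (∑ i, y (0, i) * x i) = Y0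
      generalize (∑ i, y (1, i) * x i) = Y1
      simp only [Finset.mul_sum, Finset.sum_mul, ← Finset.sum_add_distrib, ← Finset.sum_sub_distrib]
      exact Finset.sum_congr rfl fun i _ => by ring
    rw [d5, d1, d3] at d4
    linear_combination c 2 * d2 - d4
  have hq : aeval x (q 0) ≠ 0 ∨ aeval x (q 1) ≠ 0 := by
    by_contra hcon
    push Not at hcon
    refine hx (hS x (e1 0) e3 ⟨0, fun i => ?_⟩)
    rw [hF, map_add, Derivation.leibniz, Derivation.leibniz]
    simp only [smul_eq_mul, map_add, map_mul, e1, hcon.1, hcon.2]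
    ring
  have hc2 : c 2 = 0 := by
    obtain ⟨i, hi⟩ : ∃ i, x i ≠ 0 := by
      by_contra hcon
      push Not at hcon
      exact hx (funext hcon)
    rcases hq with h | h
    · have h1 := key (Pi.single (1, i) 1)
      have h2 : ∑ l, (Pi.single (1, i) 1 : Fin 2 × Fin 5 → K) (1, l) * x l = x i := by
        rw [Finset.sum_eq_single i]
        · simp
        · intro l _ hl; simp [hl]
        · simp
      have h3 : ∑ l, (Pi.single (1, i) 1 : Fin 2 × Fin 5 → K) (0, l) * x l = 0 :=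
        Finset.sum_eq_zero fun l _ => by simp
      rw [h2, h3, zero_mul, zero_sub] at h1
      exact (mul_eq_zero.1 h1).resolve_right (neg_ne_zero.2 (mul_ne_zero hi h))
    · have h1 := key (Pi.single (0, i) 1)
      have h2 : ∑ l, (Pi.single (0, i) 1 : Fin 2 × Fin 5 → K) (0, l) * x l = x i := by
        rw [Finset.sum_eq_single i]
        · simp
        · intro l _ hl; simp [hl]
        · simp
      have h3 : ∑ l, (Pi.single (0, i) 1 : Fin 2 × Fin 5 → K) (1, l) * x l = 0 :=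
        Finset.sum_eq_zero fun l _ => by simp
      rw [h2, h3, zero_mul, sub_zero] at h1
      exact (mul_eq_zero.1 h1).resolve_right (mul_ne_zero hi h)
  have hc1 : c 1 ≠ 0 := by
    intro hc1
    obtain ⟨i, hi⟩ : ∃ i, v 0 i ≠ 0 := by
      by_contra hcon
      push Not at hcon
      exact hv (funext hcon)
    have h1 := e4 i
    rw [hc1, hc2, zero_mul, zero_mul, add_zero, add_zero] at h1
    have hc0 : c 0 = 0 := (mul_eq_zero.1 h1).resolve_right (fun h0 => hi ((map_eq_zero _).1 h0))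
    apply e5
    funext l
    fin_cases l
    exacts [hc0, hc1, hc2]
  refine hx (hS x (e1 0) e3 ⟨-(c 0 / c 1), fun i => ?_⟩)
  have h1 := e4 i
  rw [hc2, zero_mul, add_zero] at h1
  field_simp
  linear_combination h1

end Field

section Main

variable {k : Type u} [Field k] [IsAlgClosed k] [CharZero k]
variable (v : Fin 3 → Fin 5 → k) (ℓ : Fin 3 → MvPolynomial (Fin 5) k) (q : Fin 2 → MvPolynomial (Fin 5) k)
  (F : MvPolynomial (Fin 5) k)

omit [CharZero k] in
/-- Smoothness of the hyperplane section passes to extension fields. -/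
theorem smooth_ext (hv : v 0 ≠ 0)
    (hS : ∀ x : Fin 5 → k, eval x (ℓ 0) = 0 → eval x F = 0 →
      (∃ t : k, ∀ i, eval x (pderiv i F) = t * v 0 i) → x = 0) {K : Type*} [Field K] [Algebra k K]
    (x : Fin 5 → K) (h0 : aeval x (ℓ 0) = 0) (h1 : aeval x F = 0)
    (h2 : ∃ t : K, ∀ i, aeval x (pderiv i F) = t * algebraMap k K (v 0 i)) : x = 0 := by
  obtain ⟨t, ht⟩ := h2
  let S : Set (MvPolynomial (Fin 5) k) := {ℓ 0, F} ∪
    Set.range fun p : Fin 5 × Fin 5 => C (v 0 p.1) * pderiv p.2 F - C (v 0 p.2) * pderiv p.1 F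
  refine eq_zero_of_system S ?_ x ?_
  · intro y hy
    refine hS y (hy _ (Or.inl (Or.inl rfl))) (hy _ (Or.inl (Or.inr rfl))) ?_
    obtain ⟨i, hi⟩ : ∃ i, v 0 i ≠ 0 := by
      by_contra hcon
      push Not at hcon
      exact hv (funext hcon)
    refine ⟨eval y (pderiv i F) / v 0 i, fun j => ?_⟩
    have h3 := hy _ (Or.inr ⟨(i, j), rfl⟩)
    simp only [map_sub, map_mul, eval_C] at h3
    field_simp
    linear_combination h3
  · rintro P ((rfl | rfl) | ⟨⟨i, j⟩, rfl⟩)
    · exact h0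
    · exact h1
    · simp only [map_sub, map_mul, ht, algHom_C]
      ring

omit [IsAlgClosed k] [CharZero k] in
theorem exists_ne {c : Fin 3 → k} (hc : c ≠ 0) : ∃ r : Fin 3 → k, ∑ l, r l * c l = 1 := by
  obtain ⟨i, hi⟩ : ∃ i, c i ≠ 0 := by
    by_contra hcon
    push Not at hcon
    exact hc (funext hcon)
  refine ⟨Pi.single i (c i)⁻¹, ?_⟩
  rw [Finset.sum_eq_single i]
  · simp [hi]
  · intro l _ hl; simp [hl]
  · simp

/-- The gradients off the line are independent for general `a, b`. -/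
theorem isGeneric_off (hℓ : ∀ j, ℓ j = ∑ i, C (v j i) * X i)
    (hv : v 0 ≠ 0)
    (hS : ∀ x : Fin 5 → k, eval x (ℓ 0) = 0 → eval x F = 0 →
      (∃ t : k, ∀ i, eval x (pderiv i F) = t * v 0 i) → x = 0) :
    LefPen.IsGeneric k {w : Fin 2 × Fin 5 → k | ∀ x : Fin 5 → k, eval x (ℓ 0) = 0 →
      eval x (ℓ 1) * ∑ i, w (0, i) * x i + eval x (ℓ 2) * ∑ i, w (1, i) * x i = 0 → eval x F = 0 →
      (eval x (ℓ 1) ≠ 0 ∨ eval x (ℓ 2) ≠ 0) →
      LinearIndependent k ![v 0, fun i => v 1 i * (∑ i, w (0, i) * x i) + eval x (ℓ 1) * w (0, i) +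
        v 2 i * (∑ i, w (1, i) * x i) + eval x (ℓ 2) * w (1, i), fun i => eval x (pderiv i F)]} := by
  have hinf : Infinite k := IsAlgClosed.instInfinite
  let τ := Fin 5 ⊕ (Fin 3 ⊕ (Fin 3 ⊕ Fin 2))
  let em : MvPolynomial (Fin 5) k →ₐ[k] MvPolynomial ((Fin 2 × Fin 5) ⊕ τ) k := rename (fun i => Sum.inr (Sum.inl i))
  let A : Fin 2 → Fin 5 → MvPolynomial ((Fin 2 × Fin 5) ⊕ τ) k := fun s i => X (Sum.inl (s, i))
  let xx : Fin 5 → MvPolynomial ((Fin 2 × Fin 5) ⊕ τ) k := fun i => X (Sum.inr (Sum.inl i))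
  let cc : Fin 3 → MvPolynomial ((Fin 2 × Fin 5) ⊕ τ) k := fun i => X (Sum.inr (Sum.inr (Sum.inl i)))
  let rr : Fin 3 → MvPolynomial ((Fin 2 × Fin 5) ⊕ τ) k := fun i => X (Sum.inr (Sum.inr (Sum.inr (Sum.inl i))))
  let ss : Fin 2 → MvPolynomial ((Fin 2 × Fin 5) ⊕ τ) k := fun i => X (Sum.inr (Sum.inr (Sum.inr (Sum.inr i))))
  let S : Set (MvPolynomial ((Fin 2 × Fin 5) ⊕ τ) k) :=
    {em (ℓ 0), em (ℓ 1) * ∑ i, A 0 i * xx i + em (ℓ 2) * ∑ i, A 1 i * xx i, em F, ∑ l, rr l * cc l - 1,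
      ss 0 * em (ℓ 1) + ss 1 * em (ℓ 2) - 1} ∪
    Set.range fun i : Fin 5 => cc 0 * C (v 0 i) + cc 1 * (C (v 1 i) * (∑ i, A 0 i * xx i) + em (ℓ 1) * A 0 i +
      C (v 2 i) * (∑ i, A 1 i * xx i) + em (ℓ 2) * A 1 i) + cc 2 * em (pderiv i F)
  have hem : ∀ {K : Type u} [Field K] [Algebra k K] (y : Fin 2 × Fin 5 → K) (p : τ → K) (P : MvPolynomial (Fin 5) k),
      aeval (Sum.elim y p) (em P) = aeval (fun i => p (Sum.inl i)) P := by
    intro K _ _ y p P
    rw [aeval_rename]
    rfl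
  refine Groth.Agent.Lefpen.H702.Engine.isGeneric_of_system (LinearEquiv.refl k (Fin 2 × Fin 5 → k)) S ?_ ?_
  · intro K _ _ y p hP
    refine no_generic_off v ℓ F ?_ hv ?_ y (fun i => p (Sum.inl i)) (fun i => p (Sum.inr (Sum.inl i))) ?_ ?_ ?_ ?_ ?_ ?_
    · intro j x
      rw [hℓ]
      simp
    · intro x
      exact smooth_ext v ℓ F hv hS x
    · have := hP _ (Or.inl (Or.inl rfl))
      rwa [hem] at this
    · have := hP _ (Or.inl (Or.inr (Or.inl rfl)))
      simpa [hem, A, xx] using this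
    · have := hP _ (Or.inl (Or.inr (Or.inr (Or.inl rfl))))
      rwa [hem] at this
    · intro i
      have := hP _ (Or.inr ⟨i, rfl⟩)
      simpa [hem, A, xx, cc] using this
    · intro h0
      have := hP _ (Or.inl (Or.inr (Or.inr (Or.inr (Or.inl rfl)))))
      have h1 : ∀ l, p (Sum.inr (Sum.inl l)) = 0 := fun l => congrFun h0 l
      simp [cc, rr, h1] at this
    · by_contra hcon
      push Not at hcon
      have := hP _ (Or.inl (Or.inr (Or.inr (Or.inr (Or.inr rfl)))))
      simp [hem, ss, hcon.1, hcon.2] at this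
  · intro w hw
    simp only [Set.mem_ofPred_eq, not_forall] at hw
    obtain ⟨x, h0, h1, h2, h3, h4⟩ := hw
    rw [Fintype.not_linearIndependent_iff] at h4
    obtain ⟨c, hc, i0, hi0⟩ := h4
    obtain ⟨r, hr⟩ := exists_ne (c := c) (fun h => hi0 (congrFun h i0))
    obtain ⟨s, hs⟩ : ∃ s : Fin 2 → k, s 0 * eval x (ℓ 1) + s 1 * eval x (ℓ 2) = 1 := by
      rcases h3 with h | h
      · exact ⟨![(eval x (ℓ 1))⁻¹, 0], by simp [h]⟩
      · exact ⟨![0, (eval x (ℓ 2))⁻¹], by simp [h]⟩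
    have hem' : ∀ (p : τ → k) (P : MvPolynomial (Fin 5) k),
      aeval (Sum.elim w p) (em P) = eval (fun i => p (Sum.inl i)) P := fun p P => by
        rw [hem]; rfl
    have hem2 : ∀ (p : τ → k) (P : MvPolynomial (Fin 5) k),
      eval (Sum.elim w p) (em P) = eval (fun i => p (Sum.inl i)) P := fun p P => hem' p P
    refine ⟨Sum.elim x (Sum.elim c (Sum.elim r s)), ?_⟩
    rintro P ((rfl | rfl | rfl | rfl | rfl) | ⟨i, rfl⟩)
    · rw [LinearEquiv.refl_apply, hem']; exact h0
    · simpa [hem2, A, xx] using h1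
    · rw [LinearEquiv.refl_apply, hem']; exact h2
    · simpa [rr, cc, sub_eq_zero] using hr
    · simpa [hem2, ss, sub_eq_zero] using hs
    · have := congrFun hc i
      simp only [Fin.sum_univ_three, Matrix.cons_val_zero, Matrix.cons_val_one, Matrix.cons_val_two] at this
      simpa [hem2, A, xx, cc] using this

/-- The gradients on the line are independent for general `a, b`. -/
theorem isGeneric_on (hℓ : ∀ j, ℓ j = ∑ i, C (v j i) * X i) (hF : F = ℓ 1 * q 0 + ℓ 2 * q 1)
    (hv : v 0 ≠ 0)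
    (hS : ∀ x : Fin 5 → k, eval x (ℓ 0) = 0 → eval x F = 0 →
      (∃ t : k, ∀ i, eval x (pderiv i F) = t * v 0 i) → x = 0) :
    LefPen.IsGeneric k {w : Fin 2 × Fin 5 → k | ∀ x : Fin 5 → k, x ≠ 0 → (∀ j, eval x (ℓ j) = 0) →
      (∑ i, w (0, i) * x i) * eval x (q 1) - (∑ i, w (1, i) * x i) * eval x (q 0) = 0 →
      LinearIndependent k ![v 0, fun i => eval x (pderiv i F), fun i =>
        w (0, i) * eval x (q 1) + (∑ i, w (0, i) * x i) * eval x (pderiv i (q 1)) -
        (w (1, i) * eval x (q 0) + (∑ i, w (1, i) * x i) * eval x (pderiv i (q 0)))]} := by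
  have hinf : Infinite k := IsAlgClosed.instInfinite
  let τ := Fin 5 ⊕ (Fin 3 ⊕ (Fin 3 ⊕ Fin 5))
  let em : MvPolynomial (Fin 5) k →ₐ[k] MvPolynomial ((Fin 2 × Fin 5) ⊕ τ) k := rename (fun i => Sum.inr (Sum.inl i))
  let A : Fin 2 → Fin 5 → MvPolynomial ((Fin 2 × Fin 5) ⊕ τ) k := fun s i => X (Sum.inl (s, i))
  let xx : Fin 5 → MvPolynomial ((Fin 2 × Fin 5) ⊕ τ) k := fun i => X (Sum.inr (Sum.inl i))
  let cc : Fin 3 → MvPolynomial ((Fin 2 × Fin 5) ⊕ τ) k := fun i => X (Sum.inr (Sum.inr (Sum.inl i)))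
  let rr : Fin 3 → MvPolynomial ((Fin 2 × Fin 5) ⊕ τ) k := fun i => X (Sum.inr (Sum.inr (Sum.inr (Sum.inl i))))
  let ss : Fin 5 → MvPolynomial ((Fin 2 × Fin 5) ⊕ τ) k := fun i => X (Sum.inr (Sum.inr (Sum.inr (Sum.inr i))))
  let S : Set (MvPolynomial ((Fin 2 × Fin 5) ⊕ τ) k) :=
    {(∑ i, A 0 i * xx i) * em (q 1) - (∑ i, A 1 i * xx i) * em (q 0), ∑ l, rr l * cc l - 1,
      ∑ l, ss l * xx l - 1} ∪ (Set.range fun j => em (ℓ j)) ∪
    Set.range fun i : Fin 5 => cc 0 * C (v 0 i) + cc 1 * em (pderiv i F) + cc 2 *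
      (A 0 i * em (q 1) + (∑ i, A 0 i * xx i) * em (pderiv i (q 1)) -
        (A 1 i * em (q 0) + (∑ i, A 1 i * xx i) * em (pderiv i (q 0))))
  have hem : ∀ {K : Type u} [Field K] [Algebra k K] (y : Fin 2 × Fin 5 → K) (p : τ → K) (P : MvPolynomial (Fin 5) k),
      aeval (Sum.elim y p) (em P) = aeval (fun i => p (Sum.inl i)) P := by
    intro K _ _ y p P
    rw [aeval_rename]
    rfl
  refine Groth.Agent.Lefpen.H702.Engine.isGeneric_of_system (LinearEquiv.refl k (Fin 2 × Fin 5 → k)) S ?_ ?_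
  · intro K _ _ y p hP
    refine no_generic_on v ℓ q F ?_ hF hv ?_ y (fun i => p (Sum.inl i)) (fun i => p (Sum.inr (Sum.inl i))) ?_ ?_ ?_ ?_ ?_
    · intro j x
      rw [hℓ]
      simp
    · intro x
      exact smooth_ext v ℓ F hv hS x
    · intro j
      have := hP _ (Or.inl (Or.inr ⟨j, rfl⟩))
      dsimp only at this
      rwa [hem] at this
    · have := hP _ (Or.inl (Or.inl (Or.inl rfl)))
      simpa [hem, A, xx] using this
    · intro i
      have := hP _ (Or.inr ⟨i, rfl⟩)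
      simpa [hem, A, xx, cc] using this
    · intro h0
      have := hP _ (Or.inl (Or.inl (Or.inr (Or.inl rfl))))
      have h1 : ∀ l, p (Sum.inr (Sum.inl l)) = 0 := fun l => congrFun h0 l
      simp [cc, rr, h1] at this
    · intro h0
      have := hP _ (Or.inl (Or.inl (Or.inr (Or.inr rfl))))
      have h1 : ∀ l, p (Sum.inl l) = 0 := fun l => congrFun h0 l
      simp [ss, xx, h1] at this
  · intro w hw
    simp only [Set.mem_ofPred_eq, not_forall] at hw
    obtain ⟨x, h0, h1, h2, h4⟩ := hw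
    rw [Fintype.not_linearIndependent_iff] at h4
    obtain ⟨c, hc, i0, hi0⟩ := h4
    obtain ⟨r, hr⟩ := exists_ne (c := c) (fun h => hi0 (congrFun h i0))
    obtain ⟨s, hs⟩ : ∃ s : Fin 5 → k, ∑ l, s l * x l = 1 := by
      obtain ⟨i, hi⟩ : ∃ i, x i ≠ 0 := by
        by_contra hcon
        push Not at hcon
        exact h0 (funext hcon)
      refine ⟨Pi.single i (x i)⁻¹, ?_⟩
      rw [Finset.sum_eq_single i]
      · simp [hi]
      · intro l _ hl; simp [hl]
      · simp
    have hem' : ∀ (p : τ → k) (P : MvPolynomial (Fin 5) k),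
      aeval (Sum.elim w p) (em P) = eval (fun i => p (Sum.inl i)) P := fun p P => by
        rw [hem]; rfl
    have hem2 : ∀ (p : τ → k) (P : MvPolynomial (Fin 5) k),
      eval (Sum.elim w p) (em P) = eval (fun i => p (Sum.inl i)) P := fun p P => hem' p P
    refine ⟨Sum.elim x (Sum.elim c (Sum.elim r s)), ?_⟩
    rintro P (((rfl | rfl | rfl) | ⟨j, rfl⟩) | ⟨i, rfl⟩)
    · simpa [hem2, A, xx] using h2
    · simpa [rr, cc, sub_eq_zero] using hr
    · simpa [ss, xx, sub_eq_zero] using hs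
    · rw [LinearEquiv.refl_apply, hem']; exact h1 j
    · have := congrFun hc i
      simp only [Fin.sum_univ_three, Matrix.cons_val_zero, Matrix.cons_val_one, Matrix.cons_val_two] at this
      simpa [hem2, A, xx, cc] using this

end Main

end K271.QuintGen
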