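import Groth.Agent.Fano.K715.QuintDef
import Groth.Agent.Fano.K714.JacSm
import Groth.Agent.Fano.K714.Zeros
import Groth.Agent.Fano.K271.JacCrit
import Groth.Agent.Fano.K271.QuintGen
import Groth.Agent.Fano.K271.QuintDecomp
import Groth.Agent.Variety.K658.RelDimComp

/-!
# Existence of a smooth residual quintic curve on a smooth hyperplane section of a smooth cubic threefold
-/

set_option autoImplicit false

universe u

open CategoryTheory CategoryTheory.Limits AlgebraicGeometry TopologicalSpace Opposite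

namespace K271.QuintExist

open LefPen MvPolynomial Groth.Agent.Fano.K714.Rat Groth.Agent.Fano.K714.Quart Groth.Agent.Fano.K715.Quint
open Groth.Agent.Lefpen.H705.HypIdeal K715.Geo

variable {k : Type u} [Field k]

theorem lin_eq (v : Fin 5 → k) : (lin v).1 = ∑ i, C (v i) * X i := by
  simp [lin, MvPolynomial.smul_eq_C_mul]

theorem pderiv_lin (v : Fin 5 → k) (t : Fin 5) : pderiv t (lin v).1 = C (v t) := by
  rw [lin_eq, map_sum]
  rw [Finset.sum_eq_single t]
  · rw [Derivation.leibniz, pderiv_C, pderiv_X_self, smul_zero, add_zero, smul_eq_mul, mul_one]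
  · intro i _ hi
    rw [Derivation.leibniz, pderiv_C, pderiv_X_of_ne hi, smul_zero, smul_zero, add_zero]
  · simp

/-- The degrees of the equations. -/
def dG : Fin 4 → ℕ := ![1, 2, 3, 3]

/-- The equations. -/
noncomputable def GG (p : DataG k) : ∀ i : Fin 4, Form 4 k (dG i) := fun i => match i with
  | 0 => lin (p.1.1 0)
  | 1 => qdG p
  | 2 => cubF p
  | 3 => cubG p

theorem ideal_cG (p : DataG k) (j : Fin 5) : (cG p).ideal ⟨chart 4 k j, isAffineOpen_chart j⟩ =
    Ideal.span (Set.range fun i => rho j (le_refl (chart 4 k j)) (GG p i).1) := by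
  have h1 : (cG p).ideal ⟨chart 4 k j, isAffineOpen_chart j⟩ =
      (hypIdeal (lin (p.1.1 0))).ideal ⟨chart 4 k j, isAffineOpen_chart j⟩ ⊔
        (hypIdeal (qdG p)).ideal ⟨chart 4 k j, isAffineOpen_chart j⟩ ⊔
        (hypIdeal (cubF p)).ideal ⟨chart 4 k j, isAffineOpen_chart j⟩ ⊔
        (hypIdeal (cubG p)).ideal ⟨chart 4 k j, isAffineOpen_chart j⟩ := rfl
  rw [h1, ideal_hyp j ⟨chart 4 k j, isAffineOpen_chart j⟩ le_rfl, ideal_hyp j ⟨chart 4 k j, isAffineOpen_chart j⟩ le_rfl,
    ideal_hyp j ⟨chart 4 k j, isAffineOpen_chart j⟩ le_rfl, ideal_hyp j ⟨chart 4 k j, isAffineOpen_chart j⟩ le_rfl]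
  apply le_antisymm
  · refine sup_le (sup_le (sup_le ?_ ?_) ?_) ?_
    · exact Ideal.span_mono (by rintro _ rfl; exact ⟨0, rfl⟩)
    · exact Ideal.span_mono (by rintro _ rfl; exact ⟨1, rfl⟩)
    · exact Ideal.span_mono (by rintro _ rfl; exact ⟨2, rfl⟩)
    · exact Ideal.span_mono (by rintro _ rfl; exact ⟨3, rfl⟩)
  · rw [Ideal.span_le]
    rintro _ ⟨i, rfl⟩
    fin_cases i
    · exact Ideal.mem_sup_left (Ideal.mem_sup_left (Ideal.mem_sup_left (Ideal.subset_span rfl)))
    · exact Ideal.mem_sup_left (Ideal.mem_sup_left (Ideal.mem_sup_right (Ideal.subset_span rfl)))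
    · exact Ideal.mem_sup_left (Ideal.mem_sup_right (Ideal.subset_span rfl))
    · exact Ideal.mem_sup_right (Ideal.subset_span rfl)

theorem qdG_val (p : DataG k) : (qdG p).1 = (lin (p.1.1 1)).1 * (lin (p.2 0)).1 + (lin (p.1.1 2)).1 * (lin (p.2 1)).1 := rfl

theorem cubF_val (p : DataG k) : (cubF p).1 = (lin (p.1.1 1)).1 * (quad (p.1.2 1)).1 +
    (lin (p.1.1 2)).1 * (quad (p.1.2 2)).1 := rfl

theorem cubG_val (p : DataG k) : (cubG p).1 = (lin (p.2 0)).1 * (quad (p.1.2 2)).1 -
    (lin (p.2 1)).1 * (quad (p.1.2 1)).1 := rfl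

variable [IsAlgClosed k] [CharZero k]

theorem exists_goodG (f : LefPen.Form 4 k 3) (hf : f ≠ 0) [Smooth (ps f)] :
    ∃ q : DataG k, q.1 ∈ Sol f ∧ GoodG q ∧ Transv f q := by
  have hinf : Infinite k := IsAlgClosed.instInfinite
  obtain ⟨⟨v, M⟩, hp, hsec⟩ := QuintDecomp.exists_sol f (Groth.Agent.Fano.K714.JacSm.smoothOn_tri f hf inferInstance)
  have hf1 : f.1 = ∑ j : Fin 3, (lin (v j)).1 * (quad (M j)).1 := hp.2
  have hv0 : v 0 ≠ 0 := hp.1.ne_zero 0
  let ℓ : Fin 3 → MvPolynomial (Fin 5) k := fun j => (lin (v j)).1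
  let q : Fin 2 → MvPolynomial (Fin 5) k := ![(quad (M 1)).1, (quad (M 2)).1]
  let F : MvPolynomial (Fin 5) k := ℓ 1 * q 0 + ℓ 2 * q 1
  have hf2 : f.1 = ℓ 0 * (quad (M 0)).1 + F := by
    rw [hf1, Fin.sum_univ_three]
    change _ = _ + (_ + _)
    rw [add_assoc]
    rfl
  have hS : ∀ x : Fin 5 → k, eval x (ℓ 0) = 0 → eval x F = 0 →
      (∃ t : k, ∀ i, eval x (pderiv i F) = t * v 0 i) → x = 0 := by
    rintro x h0 h1 ⟨t, ht⟩
    by_contra hx
    refine hsec x hx (by rw [← h0]; exact (eval_lin _ _).symm) (by rw [hf2, map_add, map_mul, h0, h1]; ring)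
      ⟨eval x (quad (M 0)).1 + t, fun i => ?_⟩
    rw [hf2, map_add, Derivation.leibniz, map_add, ht]
    have h2 : pderiv i (ℓ 0) = C (v 0 i) := pderiv_lin (v 0) i
    rw [h2]
    simp only [smul_eq_mul, map_add, map_mul, eval_C, h0]
    change _ = (_ + t) * v 0 i
    ring
  -- the general `a`, `b`
  obtain ⟨w, hoff, hon⟩ : ∃ w : Fin 2 × Fin 5 → k,
      (∀ x : Fin 5 → k, eval x (ℓ 0) = 0 →
      eval x (ℓ 1) * ∑ i, w (0, i) * x i + eval x (ℓ 2) * ∑ i, w (1, i) * x i = 0 → eval x F = 0 →
      (eval x (ℓ 1) ≠ 0 ∨ eval x (ℓ 2) ≠ 0) →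
      LinearIndependent k ![v 0, fun i => v 1 i * (∑ i, w (0, i) * x i) + eval x (ℓ 1) * w (0, i) +
        v 2 i * (∑ i, w (1, i) * x i) + eval x (ℓ 2) * w (1, i), fun i => eval x (pderiv i F)]) ∧
      (∀ x : Fin 5 → k, x ≠ 0 → (∀ j, eval x (ℓ j) = 0) →
      (∑ i, w (0, i) * x i) * eval x (q 1) - (∑ i, w (1, i) * x i) * eval x (q 0) = 0 →
      LinearIndependent k ![v 0, fun i => eval x (pderiv i F), fun i =>
        w (0, i) * eval x (q 1) + (∑ i, w (0, i) * x i) * eval x (pderiv i (q 1)) -
        (w (1, i) * eval x (q 0) + (∑ i, w (1, i) * x i) * eval x (pderiv i (q 0)))]) := by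
    obtain ⟨g1, hg1, hv1, h1⟩ := QuintGen.isGeneric_off v ℓ F (fun j => lin_eq (v j)) hv0 hS
    obtain ⟨g2, hg2, hv2, h2⟩ := QuintGen.isGeneric_on v ℓ q F (fun j => lin_eq (v j)) rfl hv0 hS
    obtain ⟨w, hw⟩ := Groth.Agent.Lefpen.H703.ZOpen.exists_mul_ne_zero hg1 hg2 hv1 hv2
    exact ⟨w, h1 w (left_ne_zero_of_mul hw), h2 w (right_ne_zero_of_mul hw)⟩
  let P : DataG k := ((v, M), fun s i => w (s, i))
  have ha : ∀ x s, eval x (lin (P.2 s)).1 = ∑ i, w (s, i) * x i := fun x s => eval_lin _ _
  refine ⟨P, hp, ?_, ?_⟩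
  · -- smoothness
    have hsmo : SmoothOfRelativeDimension 1 ((cG P).subschemeι ≫ CohB1.ProjSpace.toSpec 4 k) := by
      refine JacCrit.smoothOfRelativeDimension dG (GG P) (cG P) (ideal_cG P) (c := 3) (m := 1) rfl ?_
      intro z hz h0
      have z0 : eval z (ℓ 0) = 0 := h0 0
      have z1 : eval z (qdG P).1 = 0 := h0 1
      have z2 : eval z F = 0 := h0 2
      have z3 : eval z (cubG P).1 = 0 := h0 3
      by_cases hline : eval z (ℓ 1) ≠ 0 ∨ eval z (ℓ 2) ≠ 0
      · refine ⟨![0, 1, 2], ?_, ?_⟩
        · have h1 := hoff z z0 (by rw [← ha, ← ha]; rw [qdG_val, map_add, map_mul, map_mul] at z1; exact z1) z2 hline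
          convert h1 using 1
          funext l
          fin_cases l
          · funext t
            change eval z (pderiv t (lin (v 0)).1) = v 0 t
            rw [pderiv_lin, eval_C]
          · funext t
            change eval z (pderiv t (qdG P).1) = _
            rw [qdG_val, map_add, Derivation.leibniz, Derivation.leibniz, pderiv_lin, pderiv_lin, pderiv_lin, pderiv_lin]
            simp only [smul_eq_mul, map_add, map_mul, eval_C, ha]
            change eval z (ℓ 1) * w (0, t) + _ * v 1 t + (eval z (ℓ 2) * w (1, t) + _ * v 2 t) = v 1 t * _ + _ + v 2 t * _ + _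
            ring
          · rfl
        · intro i
          fin_cases i
          · exact ⟨1, by simp, by rw [one_mul]; exact Ideal.subset_span ⟨0, rfl⟩⟩
          · exact ⟨1, by simp, by rw [one_mul]; exact Ideal.subset_span ⟨1, rfl⟩⟩
          · exact ⟨1, by simp, by rw [one_mul]; exact Ideal.subset_span ⟨2, rfl⟩⟩
          · have hQ : (qdG P).1 ∈ Ideal.span (Set.range fun l : Fin 3 => (GG P (![0, 1, 2] l)).1) :=
              Ideal.subset_span ⟨1, rfl⟩
            have hF : (cubF P).1 ∈ Ideal.span (Set.range fun l : Fin 3 => (GG P (![0, 1, 2] l)).1) :=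
              Ideal.subset_span ⟨2, rfl⟩
            rcases hline with h | h
            · refine ⟨ℓ 1, h, ?_⟩
              have e : ℓ 1 * (cubG P).1 = (quad (M 2)).1 * (qdG P).1 - (lin (P.2 1)).1 * (cubF P).1 := by
                rw [qdG_val, cubF_val, cubG_val]
                change (lin (v 1)).1 * _ = _
                ring
              change ℓ 1 * (cubG P).1 ∈ _
              rw [e]
              exact Ideal.sub_mem _ (Ideal.mul_mem_left _ _ hQ) (Ideal.mul_mem_left _ _ hF)
            · refine ⟨ℓ 2, h, ?_⟩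
              have e : ℓ 2 * (cubG P).1 = (lin (P.2 0)).1 * (cubF P).1 - (quad (M 1)).1 * (qdG P).1 := by
                rw [qdG_val, cubF_val, cubG_val]
                change (lin (v 2)).1 * _ = _
                ring
              change ℓ 2 * (cubG P).1 ∈ _
              rw [e]
              exact Ideal.sub_mem _ (Ideal.mul_mem_left _ _ hF) (Ideal.mul_mem_left _ _ hQ)
      · push Not at hline
        have hz' : ∀ j, eval z (ℓ j) = 0 := by
          intro j
          fin_cases j
          exacts [z0, hline.1, hline.2]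
        have hM : eval z (q 0) ≠ 0 ∨ eval z (q 1) ≠ 0 := by
          by_contra hcon
          push Not at hcon
          refine hz (hS z z0 z2 ⟨0, fun i => ?_⟩)
          change eval z (pderiv i (ℓ 1 * q 0 + ℓ 2 * q 1)) = _
          rw [map_add, Derivation.leibniz, Derivation.leibniz]
          simp only [smul_eq_mul, map_add, map_mul, hz', hcon.1, hcon.2]
          ring
        refine ⟨![0, 2, 3], ?_, ?_⟩
        · have h1 := hon z hz hz' (by rw [← ha, ← ha]; rw [cubG_val, map_sub, map_mul, map_mul] at z3; exact z3)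
          convert h1 using 1
          funext l
          fin_cases l
          · funext t
            change eval z (pderiv t (lin (v 0)).1) = v 0 t
            rw [pderiv_lin, eval_C]
          · rfl
          · funext t
            change eval z (pderiv t (cubG P).1) = _
            rw [cubG_val, map_sub, Derivation.leibniz, Derivation.leibniz, pderiv_lin, pderiv_lin]
            simp only [smul_eq_mul, map_add, map_sub, map_mul, eval_C, ha]
            change _ * eval z (pderiv t (q 1)) + eval z (q 1) * w (0, t) - (_ * eval z (pderiv t (q 0)) + eval z (q 0) * w (1, t)) =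
              w (0, t) * _ + _ - (w (1, t) * _ + _)
            ring
        · intro i
          fin_cases i
          · exact ⟨1, by simp, by rw [one_mul]; exact Ideal.subset_span ⟨0, rfl⟩⟩
          · have hF : (cubF P).1 ∈ Ideal.span (Set.range fun l : Fin 3 => (GG P (![0, 2, 3] l)).1) :=
              Ideal.subset_span ⟨1, rfl⟩
            have hG : (cubG P).1 ∈ Ideal.span (Set.range fun l : Fin 3 => (GG P (![0, 2, 3] l)).1) :=
              Ideal.subset_span ⟨2, rfl⟩
            rcases hM with h | h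
            · refine ⟨q 0, h, ?_⟩
              have e : q 0 * (qdG P).1 = (lin (P.2 0)).1 * (cubF P).1 - (lin (v 2)).1 * (cubG P).1 := by
                rw [qdG_val, cubF_val, cubG_val]
                change (quad (M 1)).1 * _ = _
                ring
              change q 0 * (qdG P).1 ∈ _
              rw [e]
              exact Ideal.sub_mem _ (Ideal.mul_mem_left _ _ hF) (Ideal.mul_mem_left _ _ hG)
            · refine ⟨q 1, h, ?_⟩
              have e : q 1 * (qdG P).1 = (lin (P.2 1)).1 * (cubF P).1 + (lin (v 1)).1 * (cubG P).1 := by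
                rw [qdG_val, cubF_val, cubG_val]
                change (quad (M 2)).1 * _ = _
                ring
              change q 1 * (qdG P).1 ∈ _
              rw [e]
              exact Ideal.add_mem _ (Ideal.mul_mem_left _ _ hF) (Ideal.mul_mem_left _ _ hG)
          · exact ⟨1, by simp, by rw [one_mul]; exact Ideal.subset_span ⟨1, rfl⟩⟩
          · exact ⟨1, by simp, by rw [one_mul]; exact Ideal.subset_span ⟨2, rfl⟩⟩
    have hne : Nonempty (cG P).subscheme := by
      obtain ⟨z, hz, h0⟩ := K714.Zeros.exists_ne_zero (N := 5) (ι := Fin 4) (by simp) ![1, 1, 1, 3]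
        (by intro i; fin_cases i <;> simp) ![(lin (v 0)).1, (lin (v 1)).1, (lin (v 2)).1, (cubG P).1] (by
          intro i
          fin_cases i
          exacts [(mem_homogeneousSubmodule _ _).mp (lin (v 0)).2, (mem_homogeneousSubmodule _ _).mp (lin (v 1)).2,
            (mem_homogeneousSubmodule _ _).mp (lin (v 2)).2, (mem_homogeneousSubmodule _ _).mp (cubG P).2])
      have z0 : eval z (lin (v 0)).1 = 0 := h0 0
      have z1 : eval z (lin (v 1)).1 = 0 := h0 1
      have z2 : eval z (lin (v 2)).1 = 0 := h0 2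
      have z3 : eval z (cubG P).1 = 0 := h0 3
      refine JacCrit.nonempty_of_zero dG (GG P) (cG P) (ideal_cG P) z hz fun i => ?_
      fin_cases i
      · exact z0
      · change eval z (qdG P).1 = 0
        rw [qdG_val, map_add, map_mul, map_mul]
        change eval z (lin (v 1)).1 * _ + eval z (lin (v 2)).1 * _ = 0
        rw [z1, z2, zero_mul, zero_mul, add_zero]
      · change eval z (cubF P).1 = 0
        rw [cubF_val, map_add, map_mul, map_mul]
        change eval z (lin (v 1)).1 * _ + eval z (lin (v 2)).1 * _ = 0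
        rw [z1, z2, zero_mul, zero_mul, add_zero]
      · exact z3
    exact ⟨SmoothOfRelativeDimension.smooth 1 _,
      K658.RelDimComp.topologicalKrullDim_eq 1 ((cG P).subschemeι ≫ CohB1.ProjSpace.toSpec 4 k)⟩
  · intro z hz h0 _ h2 _
    refine hsec z hz (by rw [← h0]; exact (eval_lin _ _).symm) ?_
    have h3 : eval z F = 0 := h2
    have h4 : eval z (ℓ 0) = 0 := h0
    rw [hf2, map_add, map_mul, h4, h3, zero_mul, add_zero]

end K271.QuintExist
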